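import Groth.Agent.DTenCalc.InternalHom
import Groth.Agent.DAlg.KFlat
import Groth.Agent.DAlg.RHomCx

/-!
The Hom complex into a K-injective complex represents maps out of `- ⊗ K`, for K-flat `K`.
-/

universe u

open CategoryTheory CategoryTheory.Limits HomologicalComplex MonoidalCategory

attribute [local instance] HasDerivedCategory.standard

set_option backward.isDefEq.respectTransparency false

namespace Groth.AffDual.AlgAdj

open Groth.DerivedCoh Groth.DAlg.KFlatMod Groth.DTenCalc.InternalHom

variable {A : Type u} [CommRing A]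

local notation "up" => ComplexShape.up ℤ

variable (K : DRing.Cx A) (hK : KFlat.IsKFlat (T A) K)

/-- `- ⊗ K` on `D(A)` for K-flat `K` -/
noncomputable def GA : Dual.D A ⥤ Dual.D A :=
  Localization.lift (KFlat.totL (T A) K ⋙ DerivedCategory.Q)
    (W := HomologicalComplex.quasiIso (ModuleCat.{u} A) up)
    (fun _ _ f hf => by
      haveI : QuasiIso f := (HomologicalComplex.mem_quasiIso_iff f).1 hf
      exact (DerivedCategory.isIso_Q_map_iff_quasiIso _ _).2 (hK.quasiIso_totL f))
    DerivedCategory.Q

/-- the defining isomorphism of `GA` -/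
noncomputable def gaIso : DerivedCategory.Q ⋙ GA K hK ≅ KFlat.totL (T A) K ⋙ DerivedCategory.Q :=
  Localization.fac _ _ _

theorem additive_GA : (GA K hK).Additive := by
  haveI h₁ : (DerivedCategory.Q ⋙ GA K hK).Additive := Functor.additive_of_iso (gaIso K hK).symm
  haveI : (HomotopyCategory.quotient (ModuleCat.{u} A) up ⋙ DerivedCategory.Qh ⋙ GA K hK).Additive :=
    Functor.additive_of_iso (F := DerivedCategory.Q ⋙ GA K hK)
      (Functor.isoWhiskerRight (DerivedCategory.quotientCompQhIso (ModuleCat.{u} A)).symm _ ≪≫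
        Functor.associator _ _ _)
  rw [Localization.functor_additive_iff DerivedCategory.Qh
    (HomotopyCategory.quasiIso (ModuleCat.{u} A) up) (GA K hK)]
  exact Functor.additive_of_full_essSurj_comp (HomotopyCategory.quotient (ModuleCat.{u} A) up) _

variable (I : DRing.Cx A)

/-- evaluation -/
noncomputable def ε : (GA K hK).obj (DRing.toD (DRing.homCx K I)) ⟶ DRing.toD I :=
  (gaIso K hK).hom.app (DRing.homCx K I) ≫ DerivedCategory.Q.map (evC K I)

lemma map_ε {B : DRing.Cx A} (g : B ⟶ DRing.homCx K I) :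
    (GA K hK).map (DerivedCategory.Q.map g) ≫ ε K hK I =
      (gaIso K hK).hom.app B ≫ DerivedCategory.Q.map ((KFlat.totL (T A) K).map g ≫ evC K I) := by
  rw [ε, Functor.map_comp]
  exact (gaIso K hK).hom.naturality_assoc g _

/-- maps into the Hom complex are maps out of the tensor product -/
theorem bijective_ε [I.IsKInjective] (N : Dual.D A) :
    Function.Bijective (fun g : N ⟶ DRing.toD (DRing.homCx K I) => (GA K hK).map g ≫ ε K hK I) := by
  haveI := additive_GA K hK
  let B := (DerivedCategory.Q (C := ModuleCat.{u} A)).objPreimage N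
  let b : DerivedCategory.Q.obj B ≅ N := DerivedCategory.Q.objObjPreimageIso N
  have inj : ∀ {C : DRing.Cx A} (g : C ⟶ DRing.homCx K I),
      (GA K hK).map (DerivedCategory.Q.map g) ≫ ε K hK I = 0 → DerivedCategory.Q.map g = 0 := by
    intro C g hg
    rw [map_ε] at hg
    have h0 : DerivedCategory.Q.map ((KFlat.totL (T A) K).map g ≫ evC K I) =
        DerivedCategory.Q.map ((KFlat.totL (T A) K).map (0 : C ⟶ DRing.homCx K I) ≫ evC K I) := by
      rw [Functor.map_zero, zero_comp, Functor.map_zero, ← cancel_epi ((gaIso K hK).hom.app C), comp_zero]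
      exact hg
    obtain ⟨h⟩ := (nonempty_homotopy_iff g 0).1 ((KInjRes.Q_map_eq_iff _ _ _ _).1 h0)
    rw [DerivedCategory.Q_map_eq_of_homotopy _ h, Functor.map_zero]
  refine ⟨fun g g' h => ?_, fun f => ?_⟩
  · have ha : (GA K hK).map (g - g') ≫ ε K hK I = 0 := by
      rw [Functor.map_sub, Preadditive.sub_comp]
      exact sub_eq_zero.2 h
    obtain ⟨C, s, hs, γ, hfac⟩ := DerivedCategory.right_fac (b.hom ≫ (g - g'))
    haveI := hs
    have e1 : DerivedCategory.Q.map γ = DerivedCategory.Q.map s ≫ b.hom ≫ (g - g') := by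
      rw [hfac, IsIso.hom_inv_id_assoc]
    have hγ : (GA K hK).map (DerivedCategory.Q.map γ) ≫ ε K hK I = 0 := by
      rw [e1, Functor.map_comp, Functor.map_comp, Category.assoc, Category.assoc, ha, comp_zero, comp_zero]
    rw [inj γ hγ, comp_zero, ← comp_zero (X := DerivedCategory.Q.obj B) (f := b.hom), cancel_epi] at hfac
    exact sub_eq_zero.1 hfac
  · obtain ⟨φ, hφ⟩ := KInjRes.Q_map_surjective ((KFlat.totL (T A) K).obj B) I
      ((gaIso K hK).inv.app B ≫ (GA K hK).map b.hom ≫ f)
    refine ⟨b.inv ≫ DerivedCategory.Q.map ((adjC K).homEquiv B I φ), ?_⟩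
    have hψ : (KFlat.totL (T A) K).map ((adjC K).homEquiv B I φ) ≫ evC K I = φ :=
      (adjC_symm_apply _).symm.trans (Equiv.symm_apply_apply _ φ)
    change (GA K hK).map (b.inv ≫ DerivedCategory.Q.map ((adjC K).homEquiv B I φ)) ≫ ε K hK I = f
    rw [Functor.map_comp, Category.assoc, map_ε, hψ, hφ]
    simp

end Groth.AffDual.AlgAdj
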