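import Groth.Agent.AffDual.HighTail
import Groth.Agent.DerivedCoh.PCohDescent.Noetherian

/-!
`RHom(E, I)` has quasi-coherent cohomology for coherent cohomology of `E` and a bounded complex of
injectives `I` with quasi-coherent cohomology.
-/

universe u

open CategoryTheory CategoryTheory.Limits AlgebraicGeometry HomologicalComplex

namespace Groth.AffDual.QCohRHom

open Groth.DerivedCoh.KFlat (T IsKFlat flatResolution flatResolutionAug)
open Groth.AffDual.HighTail

attribute [local instance] HasDerivedCategory.standard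

local notation "up" => ComplexShape.up ℤ

variable {X : Scheme.{u}}

/-- `RHom(E, -)` exists for every complex -/
theorem hasRSheafHom (E : CochainComplex X.Modules ℤ) [DCoh.HasLTensorCx E] : DCoh.HasRSheafHom E := by
  let E₀ := (flatResolution X).obj E
  let π := (flatResolutionAug X).app E
  haveI : QuasiIso π := Groth.DerivedCoh.KFlat.flatResolution_quasiIso E
  haveI := Groth.DerivedCoh.KFlat.hasLTensorCx E₀
  haveI := Groth.Misc4.HasRSheafHom.hasRSheafHom E₀ (Groth.DerivedCoh.KFlat.flatResolution_isKFlat E)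
    (Groth.DerivedCoh.KFlat.flatResolution_isFlat E)
  haveI : ∀ C, IsIso ((Functor.whiskerLeft (flatResolution X)
      (Functor.whiskerRight ((DCoh.tensorCx (X := X)).flip.map π) DerivedCategory.Q)).app C) := fun C => by
    haveI : QuasiIso ((Groth.DerivedCoh.KFlat.totR (T X) ((flatResolution X).obj C)).map π) :=
      Groth.DerivedCoh.KFlat.quasiIso_totR (T X)
        (Groth.DerivedCoh.KFlat.flatResolution_isKFlat_flip C) π
    exact (DerivedCategory.isIso_Q_map_iff_quasiIso _ _).2 this
  haveI := NatIso.isIso_of_isIso_app (Functor.whiskerLeft (flatResolution X)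
    (Functor.whiskerRight ((DCoh.tensorCx (X := X)).flip.map π) DerivedCategory.Q))
  let c : DCoh.LTensorCx E₀ ≅ DCoh.LTensorCx E :=
    Localization.liftNatIso DerivedCategory.Q (HomologicalComplex.quasiIso X.Modules up)
      (DerivedCategory.Q ⋙ DCoh.LTensorCx E₀) (DerivedCategory.Q ⋙ DCoh.LTensorCx E) _ _
      (Groth.DerivedCoh.KFlat.ltcxResIso E₀ ≪≫
        asIso (Functor.whiskerLeft (flatResolution X)
          (Functor.whiskerRight ((DCoh.tensorCx (X := X)).flip.map π) DerivedCategory.Q)) ≪≫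
        (Groth.DerivedCoh.KFlat.ltcxResIso E).symm)
  exact ((DCoh.RSheafHomAdj E₀).ofNatIsoLeft c).isLeftAdjoint

/-- quasi-coherence of `RHom(E, I)` -/
theorem isQCohD_rhom [IsNoetherian X] (E : CochainComplex X.Modules ℤ)
    (hE : DCoh.IsCohD (DCoh.toD X E)) [DCoh.HasLTensorCx E] [DCoh.HasRSheafHom E]
    (I : CochainComplex X.Modules ℤ) (a b : ℤ) [I.IsStrictlyGE a] [I.IsStrictlyLE b]
    [∀ q, Injective (I.X q)] (hI : DCoh.IsQCohD (DCoh.toD X I)) :
    DCoh.IsQCohD ((DCoh.RSheafHom E).obj (DCoh.toD X I)) := fun i => by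
  let N : ℤ := b - i + 2
  let S := E.shortComplexTruncLE N
  haveI : S.X₃.IsGE (N + 1) := by
    rw [CochainComplex.isGE_iff]
    intro j hj
    obtain ⟨k, hk⟩ := Int.le.dest (show j ≤ N by omega)
    have := E.shortComplexTruncLE_X₃_isSupportedOutside (ComplexShape.embeddingUpIntLE N)
    have h := this.exactAt k
    rwa [show (ComplexShape.embeddingUpIntLE N).f k = j by simp; omega] at h
  haveI := Groth.DerivedCoh.KFlat.hasLTensorCx S.X₁
  haveI := hasRSheafHom S.X₁
  haveI : DCoh.HasLTensorCx S.X₂ := ‹DCoh.HasLTensorCx E›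
  haveI : DCoh.HasRSheafHom S.X₂ := ‹DCoh.HasRSheafHom E›
  have h₁ : DCoh.IsCohD (DCoh.toD X S.X₁) := fun j => by
    by_cases hj : j ≤ N
    · haveI : QuasiIsoAt (E.ιTruncLE N) j := E.quasiIsoAt_ιTruncLE N j hj
      haveI := (quasiIsoAt_iff_isIso_homologyMap (E.ιTruncLE N) j).1 inferInstance
      exact Groth.QCohMod.isCoh_of_iso ((DerivedCategory.homologyFunctorFactors X.Modules j).app E ≪≫
        (asIso (HomologicalComplex.homologyMap (E.ιTruncLE N) j)).symm ≪≫
        ((DerivedCategory.homologyFunctorFactors X.Modules j).app _).symm) (hE j)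
    · exact Groth.KTheory.isCoh_of_isZero (DerivedCategory.isZero_of_isLE
        (DerivedCategory.Q.obj (E.truncLE N)) N j (by omega))
  have hp : ∀ m : ℤ, DCoh.IsPseudoCoherentD m (DCoh.toD X S.X₁) := fun m =>
    (Groth.DerivedCoh.PCohDescent.pcoh_iff_coherent _ (fun j => (h₁ j).1) m).2
      ⟨fun j _ => h₁ j, N, (inferInstance : (DerivedCategory.Q.obj (E.truncLE N)).IsLE N)⟩
  haveI : (DCoh.toD X I).IsGE a := (inferInstance : (DerivedCategory.Q.obj I).IsGE a)
  obtain ⟨e⟩ := nonempty_hd_rhom_iso S (E.shortComplexTruncLE_shortExact N) (N + 1) I a b i (by omega)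
  exact (Groth.QCohMod.isQCoh_iff_of_iso e).2
    (Groth.Misc4.QCohDRHom.isQCohD_rhom_pcoh S.X₁ hp hI a i)

end Groth.AffDual.QCohRHom
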