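import Groth.Agent.AffDual.TildeTensor
import Groth.Agent.AffDual.QCohRHom
import Groth.Agent.AffDual.AlgAdj
import Groth.Agent.Misc4.QCohTildeD
import Groth.Agent.LocCohTransform.RHomDual
import Groth.Agent.CohTwo.InjectiveQCoh
import Groth.Agent.Calg1.DualSchLocal
import Groth.Agent.MiscGeom.AlgzSheaf
import Groth.Agent.S1121

/-!
`RHom(K~, L~) ≅ RHom(K, L)~` on an affine Noetherian scheme, for `L` of finite injective dimension.
-/

universe u

open CategoryTheory CategoryTheory.Limits AlgebraicGeometry HomologicalComplex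

attribute [local instance] HasDerivedCategory.standard

set_option backward.isDefEq.respectTransparency false
set_option maxHeartbeats 1000000

namespace Groth.AffDual.Main

open Groth.DerivedCoh
open Groth.DAlg.KFlatMod (IsKFlatCx resFunctor resAug resAug_quasiIso res_isKFlat isKFlatCx_iff)

variable {R : CommRingCat.{u}} [PreservesFiniteLimits (tilde.functor R)]

local notation "up" => ComplexShape.up ℤ
local notation "tCx" => Functor.mapHomologicalComplex (tilde.functor R) (ComplexShape.up ℤ)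

/-- tilde and the derived tensor product -/
noncomputable def tauIso (K : DRing.Cx R) (hK : KFlat.IsKFlat (Groth.DAlg.KFlatMod.T R) K)
    (hKt : KFlat.IsKFlat (KFlat.T (Spec R)) ((tCx).obj K)) [DCoh.HasLTensorCx ((tCx).obj K)] :
    AlgAdj.GA K hK ⋙ DCoh.tildeD R ≅ DCoh.tildeD R ⋙ DCoh.LTensorCx ((tCx).obj K) :=
  Localization.liftNatIso DerivedCategory.Q (HomologicalComplex.quasiIso (ModuleCat.{u} R) up)
    (DerivedCategory.Q ⋙ AlgAdj.GA K hK ⋙ DCoh.tildeD R)
    (DerivedCategory.Q ⋙ DCoh.tildeD R ⋙ DCoh.LTensorCx ((tCx).obj K)) _ _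
    ((Functor.associator _ _ _).symm ≪≫ Functor.isoWhiskerRight (AlgAdj.gaIso K hK) _ ≪≫
      Functor.associator _ _ _ ≪≫
      Functor.isoWhiskerLeft _ (tilde.functor R).mapDerivedCategoryFactors ≪≫
      (Functor.associator _ _ _).symm ≪≫
      Functor.isoWhiskerRight
        (NatIso.ofComponents (fun P => TildeTensor.totIso P K) (fun f => TildeTensor.totIso_natural f K) :
          KFlat.totL (Groth.DAlg.KFlatMod.T R) K ⋙ (tCx) ≅
            (tCx) ⋙ KFlat.totL (KFlat.T (Spec R)) ((tCx).obj K)) DerivedCategory.Q ≪≫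
      Functor.associator _ _ _ ≪≫
      Functor.isoWhiskerLeft _ (KFlat.ltcxNatIso ((tCx).obj K) hKt).symm ≪≫
      (Functor.associator _ _ _).symm ≪≫
      Functor.isoWhiskerRight (tilde.functor R).mapDerivedCategoryFactors.symm _ ≪≫
      Functor.associator _ _ _)

/-- a morphism composing to bijections is an isomorphism -/
lemma isIso_of_bijective_comp {C : Type*} [Category C] {H M : C} (m : H ⟶ M)
    (h : ∀ N : C, Function.Bijective (fun g : N ⟶ H => g ≫ m)) : IsIso m := by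
  obtain ⟨g, hg⟩ := (h M).2 (𝟙 M)
  exact ⟨g, (h H).1 ((Category.assoc _ _ _).trans ((congrArg (m ≫ ·) hg).trans
    ((Category.comp_id m).trans (Category.id_comp m).symm))), hg⟩

theorem main [IsNoetherianRing R] (K : DRing.Cx R)
    (hK : ∀ i : ℤ, Module.Finite R (Dual.HD R (DRing.toD K) i)) [DRing.HasRHomCx K]
    (L : Dual.D R) (hL : DRing.HasFiniteInjDim R L) (E : CochainComplex (Spec R).Modules ℤ)
    (hE : Nonempty (DCoh.toD (Spec R) E ≅ (DCoh.tildeD R).obj (DRing.toD K)))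
    [DCoh.HasLTensorCx E] [DCoh.HasRSheafHom E] :
    Nonempty ((DCoh.RSheafHom E).obj ((DCoh.tildeD R).obj L) ≅
      (DCoh.tildeD R).obj ((DRing.RHomCx K).obj L)) := by
  haveI : IsNoetherian (Spec R) := inferInstance
  obtain ⟨eE⟩ := hE
  obtain ⟨a, b, I, hI, hIi, ⟨eI⟩⟩ := hL
  -- the representative of `L`
  haveI : I.IsStrictlyGE a := (CochainComplex.isStrictlyGE_iff _ _).2 fun i hi => hI i (Or.inl hi)
  haveI : I.IsStrictlyLE b := (CochainComplex.isStrictlyLE_iff _ _).2 fun i hi => hI i (Or.inr hi)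
  haveI : ∀ q, Injective (I.X q) := fun q => by
    haveI : Module.Injective R (I.X q) := hIi q
    exact Module.injective_object_of_injective_module R (I.X q)
  haveI : I.IsKInjective := CochainComplex.isKInjective_of_injective I a
  let J : CochainComplex (Spec R).Modules ℤ := (tCx).obj I
  haveI : J.IsStrictlyGE a := (CochainComplex.isStrictlyGE_iff _ _).2 fun i hi =>
    (tilde.functor R).map_isZero (hI i (Or.inl hi))
  haveI : J.IsStrictlyLE b := (CochainComplex.isStrictlyLE_iff _ _).2 fun i hi =>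
    (tilde.functor R).map_isZero (hI i (Or.inr hi))
  haveI : ∀ q, Injective (J.X q) := fun q => by
    haveI : Module.Injective R (I.X q) := hIi q
    exact Groth.CohTwo.InjQCoh.injective_tilde (I.X q)
  let eJ : (DCoh.tildeD R).obj L ≅ DCoh.toD (Spec R) J :=
    (DCoh.tildeD R).mapIso eI.symm ≪≫ (tilde.functor R).mapDerivedCategoryFactors.app I
  have hqL : DCoh.IsQCohD ((DCoh.tildeD R).obj L) :=
    (Groth.Misc4.QCohTildeD.isQCohD_iff R _).2 ⟨L, ⟨Iso.refl _⟩⟩
  -- `RHom(E, L~)` is quasi-coherent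
  have hcE : DCoh.IsCohD (DCoh.toD (Spec R) E) := fun i => by
    obtain ⟨e⟩ := Groth.Calg1.DualSch.nonempty_homology_tildeD R (DRing.toD K) i
    exact Groth.QCohMod.isCoh_of_iso ((DerivedCategory.homologyFunctor (Spec R).Modules i).mapIso eE ≪≫ e).symm
      (Groth.MiscGeom.AlgzSheaf.isCoh_tilde' _ (hK i))
  have hq : DCoh.IsQCohD ((DCoh.RSheafHom E).obj ((DCoh.tildeD R).obj L)) :=
    Groth.Misc4.QCohDPerf.isQCohD_of_iso ((DCoh.RSheafHom E).mapIso eJ).symm
      (QCohRHom.isQCohD_rhom E hcE J a b (Groth.Misc4.QCohDPerf.isQCohD_of_iso eJ hqL))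
  obtain ⟨M, ⟨ψ⟩⟩ := (Groth.Misc4.QCohTildeD.isQCohD_iff R _).1 hq
  -- K-flat models
  let K₀ := (resFunctor R).obj K
  let π := (resAug R).app K
  haveI : QuasiIso π := resAug_quasiIso K
  haveI : IsIso (DerivedCategory.Q.map π) :=
    (DerivedCategory.isIso_Q_map_iff_quasiIso _ _).2 inferInstance
  have hK₀ : IsKFlatCx R K₀ := res_isKFlat K
  have hK₀' := isKFlatCx_iff.1 hK₀
  let E₁ : CochainComplex (Spec R).Modules ℤ := (tCx).obj K₀
  have hE₁ : KFlat.IsKFlat (KFlat.T (Spec R)) E₁ :=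
    (KFlat.isKFlat_iff _).1 (Groth.Agent.S1121.result R K₀ hK₀)
  let E₀ := (KFlat.flatResolution (Spec R)).obj E
  let ρ := (KFlat.flatResolutionAug (Spec R)).app E
  haveI : QuasiIso ρ := KFlat.flatResolution_quasiIso E
  haveI : IsIso (DerivedCategory.Q.map ρ) :=
    (DerivedCategory.isIso_Q_map_iff_quasiIso _ _).2 inferInstance
  haveI := KFlat.hasLTensorCx E₀
  haveI := KFlat.hasLTensorCx E₁
  haveI : ∀ C, IsIso ((Functor.whiskerLeft (KFlat.flatResolution (Spec R))
      (Functor.whiskerRight ((DCoh.tensorCx (X := Spec R)).flip.map ρ) DerivedCategory.Q)).app C) := fun C => by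
    haveI : QuasiIso ((KFlat.totR (KFlat.T (Spec R)) ((KFlat.flatResolution (Spec R)).obj C)).map ρ) :=
      KFlat.quasiIso_totR _ (KFlat.flatResolution_isKFlat_flip C) ρ
    exact (DerivedCategory.isIso_Q_map_iff_quasiIso _ _).2 this
  haveI := NatIso.isIso_of_isIso_app (Functor.whiskerLeft (KFlat.flatResolution (Spec R))
    (Functor.whiskerRight ((DCoh.tensorCx (X := Spec R)).flip.map ρ) DerivedCategory.Q))
  let c : DCoh.LTensorCx E₀ ≅ DCoh.LTensorCx E :=
    Localization.liftNatIso DerivedCategory.Q (HomologicalComplex.quasiIso (Spec R).Modules up)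
      (DerivedCategory.Q ⋙ DCoh.LTensorCx E₀) (DerivedCategory.Q ⋙ DCoh.LTensorCx E) _ _
      (KFlat.ltcxResIso E₀ ≪≫
        asIso (Functor.whiskerLeft (KFlat.flatResolution (Spec R))
          (Functor.whiskerRight ((DCoh.tensorCx (X := Spec R)).flip.map ρ) DerivedCategory.Q)) ≪≫
        (KFlat.ltcxResIso E).symm)
  obtain ⟨c'⟩ := Groth.DerivedCoh.Duality.nonempty_ltcx_congr
    (KFlat.flatResolution_isKFlat E) hE₁
    (asIso (DerivedCategory.Q.map ρ) ≪≫ eE ≪≫
      (DCoh.tildeD R).mapIso (asIso (DerivedCategory.Q.map π)).symm ≪≫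
      (tilde.functor R).mapDerivedCategoryFactors.app K₀)
  let adj : DCoh.LTensorCx E₁ ⊣ DCoh.RSheafHom E :=
    (DCoh.RSheafHomAdj E).ofNatIsoLeft (c.symm ≪≫ c')
  let τ := tauIso K₀ hK₀' hE₁
  -- the comparison
  let H := DRing.toD (DRing.homCx K₀ I)
  let θ : (DCoh.tildeD R).obj H ⟶ (DCoh.RSheafHom E).obj ((DCoh.tildeD R).obj L) :=
    adj.homEquiv _ _ (τ.inv.app H ≫ (DCoh.tildeD R).map (AlgAdj.ε K₀ hK₀' I ≫ eI.hom))
  obtain ⟨m, hm⟩ := (Groth.Misc4.QCohTildeD.bijective_map R H M).2 (θ ≫ ψ.inv)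
  have hθ : ∀ N : Dual.D R,
      Function.Bijective (fun g : N ⟶ H => (DCoh.tildeD R).map g ≫ θ) := fun N => by
    have e : (fun g : N ⟶ H => (DCoh.tildeD R).map g ≫ θ) =
        adj.homEquiv _ _ ∘ Iso.homFromEquiv (τ.app N) ∘
          (fun φ => (DCoh.tildeD R).map φ) ∘ Iso.homToEquiv eI ∘
          (fun g => (AlgAdj.GA K₀ hK₀').map g ≫ AlgAdj.ε K₀ hK₀' I) := by
      funext g
      refine (adj.homEquiv_naturality_left _ _).symm.trans (congrArg (adj.homEquiv _ _) ?_)
      change (DCoh.LTensorCx E₁).map ((DCoh.tildeD R).map g) ≫ τ.inv.app H ≫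
          (DCoh.tildeD R).map (AlgAdj.ε K₀ hK₀' I ≫ eI.hom) =
        τ.inv.app N ≫ (DCoh.tildeD R).map (((AlgAdj.GA K₀ hK₀').map g ≫ AlgAdj.ε K₀ hK₀' I) ≫ eI.hom)
      rw [Category.assoc, Functor.map_comp _ ((AlgAdj.GA K₀ hK₀').map g)]
      exact τ.inv.naturality_assoc g _
    rw [e]
    exact (adj.homEquiv _ _).bijective.comp ((Iso.homFromEquiv (τ.app N)).bijective.comp
      ((Groth.Misc4.QCohTildeD.bijective_map R _ _).comp ((Iso.homToEquiv eI).bijective.comp
        (AlgAdj.bijective_ε K₀ hK₀' I N))))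
  haveI : IsIso m := isIso_of_bijective_comp m fun N => by
    refine (Function.Bijective.of_comp_iff'
      (f := fun φ : N ⟶ M => (DCoh.tildeD R).map φ ≫ ψ.hom)
      (ψ.homToEquiv.bijective.comp (Groth.Misc4.QCohTildeD.bijective_map R N M))
      (fun g : N ⟶ H => g ≫ m)).1 ?_
    have : ((fun φ : N ⟶ M => (DCoh.tildeD R).map φ ≫ ψ.hom) ∘ fun g : N ⟶ H => g ≫ m) =
        fun g : N ⟶ H => (DCoh.tildeD R).map g ≫ θ := by
      funext g
      change (DCoh.tildeD R).map (g ≫ m) ≫ ψ.hom = _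
      rw [Functor.map_comp, Category.assoc]
      refine congrArg (_ ≫ ·) ?_
      rw [show (DCoh.tildeD R).map m = θ ≫ ψ.inv from hm, Category.assoc, Iso.inv_hom_id, Category.comp_id]
    rw [this]
    exact hθ N
  haveI := Groth.DAlg.RHomCx.hasRHomCx K₀
  obtain ⟨r⟩ := Groth.LocCohTransform.RHomDual.nonempty_rhom_congr
    (K := K) (K' := K₀) (asIso (DerivedCategory.Q.map π)).symm L
  exact ⟨ψ.symm ≪≫ (DCoh.tildeD R).mapIso ((asIso m).symm ≪≫ Groth.DAlg.RHomCx.objIso K₀ I ≪≫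
    (DRing.RHomCx K₀).mapIso eI ≪≫ r.symm)⟩

end Groth.AffDual.Main
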