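import Groth.Agent.AffDual.Flip
import Groth.Agent.DerivedCoh.Duality.RHomTensor
import Groth.Agent.AffDual.Main
import Groth.Agent.IntMult.CohDTensor
import Groth.Agent.S1819
import Groth.Agent.S9826
import Groth.Prelude.Def_DualSch

/-!
Grothendieck duality with values in coherent objects: biduality for a dualizing complex on a scheme.
-/

universe u

open CategoryTheory CategoryTheory.Limits AlgebraicGeometry HomologicalComplex

attribute [local instance] HasDerivedCategory.standard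

set_option maxHeartbeats 1000000

namespace Groth.AffDual.Bidual

open Groth.DerivedCoh Groth.DerivedCoh.Duality
open Groth.DerivedCoh.KFlat (T IsKFlat tot totL totR)
open Groth.DerivedCoh.ExtZero (resCx restrRHomIso)
open Groth.AffDual.Flip
open Groth.IntMult.CohDTensor (isCohD_of_iso)

section Affine

variable {R : CommRingCat.{u}} [PreservesFiniteLimits (tilde.functor R)] [IsNoetherianRing R]

/-- objects with coherent cohomology come from complexes with finite cohomology -/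
theorem exists_model {A : DCoh.D (Spec R)} (hA : DCoh.IsCohD A) :
    ∃ K : DRing.Cx R, (∀ i : ℤ, Module.Finite R (Dual.HD R (DRing.toD K) i)) ∧
      Nonempty (A ≅ (DCoh.tildeD R).obj (DRing.toD K)) := by
  obtain ⟨M, ⟨e⟩⟩ := (Groth.Misc4.QCohTildeD.isQCohD_iff R A).1 fun i => (hA i).1
  let K := (DerivedCategory.Q (C := ModuleCat.{u} R)).objPreimage M
  let eK : DRing.toD K ≅ M := DerivedCategory.Q.objObjPreimageIso M
  refine ⟨K, fun i => ?_, ⟨e.symm ≪≫ (DCoh.tildeD R).mapIso eK.symm⟩⟩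
  obtain ⟨c⟩ := Groth.Calg1.DualSch.nonempty_homology_tildeD R (DRing.toD K) i
  have h := Groth.QCohMod.isCoh_of_iso
    ((DerivedCategory.homologyFunctor (Spec R).Modules i).mapIso (e.symm ≪≫ (DCoh.tildeD R).mapIso eK.symm) ≪≫ c)
    (hA i)
  exact (Groth.PropsBasic.FPSections.isFT_tilde_iff _).1 h.2

theorem isCohD_tildeD (N : Dual.D R) (h : ∀ i : ℤ, Module.Finite R (Dual.HD R N i)) :
    DCoh.IsCohD ((DCoh.tildeD R).obj N) := fun i => by
  obtain ⟨e⟩ := Groth.Calg1.DualSch.nonempty_homology_tildeD R N i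
  exact Groth.QCohMod.isCoh_of_iso e.symm (Groth.MiscGeom.AlgzSheaf.isCoh_tilde' _ (h i))

theorem hasFiniteInjDim_dualizing (ω : Dual.D R) (hω : Dual.IsDualizing R ω) :
    DRing.HasFiniteInjDim R ω := by
  obtain ⟨a, b, h⟩ := hω.finite_injective_dimension
  obtain ⟨r⟩ := Groth.DualCore.exists_injRep ω a b h
  refine ⟨r.a, r.b, r.I, fun i hi => ?_, r.injective, ⟨r.iso⟩⟩
  rcases hi with hi | hi
  · haveI := r.hGE; exact r.I.isZero_of_isStrictlyGE r.a i hi
  · haveI := r.hLE; exact r.I.isZero_of_isStrictlyLE r.b i hi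

/-- `RHom(L, ω~)` through an algebraic model -/
theorem exists_rhom_model (ω : Dual.D R) (hω : Dual.IsDualizing R ω)
    (L : CochainComplex (Spec R).Modules ℤ) [DCoh.HasLTensorCx L] [DCoh.HasRSheafHom L]
    (K : DRing.Cx R) (hK : ∀ i : ℤ, Module.Finite R (Dual.HD R (DRing.toD K) i))
    (e : DCoh.toD (Spec R) L ≅ (DCoh.tildeD R).obj (DRing.toD K)) :
    ∃ T : DRing.Cx R, (∀ i : ℤ, Module.Finite R (Dual.HD R (DRing.toD T) i)) ∧
      Nonempty ((DCoh.RSheafHom L).obj ((DCoh.tildeD R).obj ω) ≅ (DCoh.tildeD R).obj (DRing.toD T)) ∧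
      ∀ [DRing.HasRHomCx T], Nonempty ((DRing.RHomCx T).obj ω ≅ DRing.toD K) := by
  haveI := Groth.DAlg.RHomCx.hasRHomCx K
  obtain ⟨hfin, hbi⟩ := Groth.Agent.S1819.result R ω hω K hK
  let N := (DRing.RHomCx K).obj ω
  let T := (DerivedCategory.Q (C := ModuleCat.{u} R)).objPreimage N
  let eT : DRing.toD T ≅ N := DerivedCategory.Q.objObjPreimageIso N
  obtain ⟨c⟩ := Groth.AffDual.Main.main K hK ω (hasFiniteInjDim_dualizing ω hω) L ⟨e⟩
  refine ⟨T, fun i => ?_, ⟨c ≪≫ (DCoh.tildeD R).mapIso eT.symm⟩, fun {_} => hbi T ⟨eT⟩⟩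
  haveI := hfin i
  exact Module.Finite.equiv ((DerivedCategory.homologyFunctor (ModuleCat.{u} R) i).mapIso eT.symm).toLinearEquiv

/-- an epimorphic endomorphism of a coherent sheaf on an affine Noetherian scheme is an isomorphism -/
theorem isIso_of_epi_endo {F : (Spec R).Modules} (hF : Coh.IsCoh F) (f : F ⟶ F) [Epi f] : IsIso f := by
  haveI := hF.1
  let P := (moduleSpecΓFunctor (R := R)).obj F
  haveI : IsIso F.fromTildeΓ := Scheme.Modules.isIso_fromTildeΓ_of_isQuasicoherent F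
  let e : (tilde.functor R).obj P ≅ F := @asIso _ _ _ _ F.fromTildeΓ ‹_›
  haveI : Module.Finite R P :=
    (Groth.PropsBasic.FPSections.isFT_tilde_iff P).1 (Groth.QCohMod.isCoh_of_iso e.symm hF).2
  let p : P ⟶ P := tilde.fullyFaithfulFunctor.preimage (e.hom ≫ f ≫ e.inv)
  have hp : (tilde.functor R).map p = e.hom ≫ f ≫ e.inv := tilde.fullyFaithfulFunctor.map_preimage _
  haveI := (tilde.fullyFaithfulFunctor (R := R)).faithful
  haveI : Epi p := (tilde.functor R).epi_of_epi_map (by rw [hp]; infer_instance)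
  haveI : IsIso p := (ConcreteCategory.isIso_iff_bijective p).2
    ⟨OrzechProperty.injective_of_surjective_endomorphism p.hom ((ModuleCat.epi_iff_surjective p).1 inferInstance),
      (ModuleCat.epi_iff_surjective p).1 inferInstance⟩
  have : f = e.inv ≫ (tilde.functor R).map p ≫ e.hom := by rw [hp]; simp
  rw [this]
  infer_instance

/-- split monomorphisms between isomorphic coherent objects are isomorphisms -/
theorem isIso_of_split {A B : DCoh.D (Spec R)} (a : A ⟶ B) (r : B ⟶ A) (hA : DCoh.IsCohD A)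
    (e : B ≅ A) (h : a ≫ r = 𝟙 _) : IsIso a := by
  rw [DerivedCategory.isIso_iff]
  intro i
  let H := DerivedCategory.homologyFunctor (Spec R).Modules i
  haveI : IsSplitEpi (H.map r) := ⟨⟨⟨H.map a, by rw [← H.map_comp, h, H.map_id]⟩⟩⟩
  haveI : IsIso (H.map e.inv ≫ H.map r) := isIso_of_epi_endo (hA i) _
  haveI : IsIso (H.map r) := IsIso.of_isIso_comp_left (H.map e.inv) _
  have h' : H.map a = inv (H.map r) := by
    apply IsIso.eq_inv_of_inv_hom_id
    rw [← H.map_comp, h, H.map_id]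
  change IsIso (H.map a)
  rw [h']
  infer_instance

/-- biduality on an affine scheme -/
theorem flipAt_affine (ω : Dual.D R) (hω : Dual.IsDualizing R ω)
    (M : DCoh.D (Spec R)) (eM : M ≅ (DCoh.tildeD R).obj ω)
    (L : CochainComplex (Spec R).Modules ℤ) (hL : IsKFlat (T _) L) [DCoh.HasLTensorCx L]
    (hLc : DCoh.IsCohD (DCoh.toD (Spec R) L)) : FlipAt M L hL := by
  refine flipAt_of_abstract (fun A => DCoh.IsCohD A) (fun e h => isCohD_of_iso e h) M ?_ ?_
    (fun a r hA e h => isIso_of_split a r hA e h) L hL hLc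
  · intro L D hL hD _ b hL' hb
    haveI := Groth.AffDual.QCohRHom.hasRSheafHom L
    obtain ⟨K, hK, ⟨eK⟩⟩ := exists_model hL'
    obtain ⟨T, hT, ⟨c⟩, -⟩ := exists_rhom_model ω hω L K hK eK
    obtain ⟨d⟩ := nonempty_iso_rhom (isKFlat_flip hD) hb
    exact isCohD_of_iso (d ≪≫ (DCoh.RSheafHom L).mapIso eM ≪≫ c).symm (isCohD_tildeD _ hT)
  · intro L D E hL hD hE _ _ b c hL' hb hc
    haveI := Groth.AffDual.QCohRHom.hasRSheafHom L
    haveI := Groth.AffDual.QCohRHom.hasRSheafHom D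
    obtain ⟨K, hK, ⟨eK⟩⟩ := exists_model hL'
    obtain ⟨T, hT, ⟨cL⟩, hbi⟩ := exists_rhom_model ω hω L K hK eK
    obtain ⟨dD⟩ := nonempty_iso_rhom (isKFlat_flip hD) hb
    obtain ⟨dE⟩ := nonempty_iso_rhom (isKFlat_flip hE) hc
    haveI := Groth.DAlg.RHomCx.hasRHomCx T
    obtain ⟨cD⟩ := Groth.AffDual.Main.main T hT ω (hasFiniteInjDim_dualizing ω hω) D
      ⟨dD ≪≫ (DCoh.RSheafHom L).mapIso eM ≪≫ cL⟩
    obtain ⟨bi⟩ := @hbi inferInstance
    exact ⟨dE ≪≫ (DCoh.RSheafHom D).mapIso eM ≪≫ cD ≪≫ (DCoh.tildeD R).mapIso bi ≪≫ eK.symm⟩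

end Affine

variable {X : Scheme.{u}}

/-- vanishing near the points of an affine open, from vanishing on its spectrum -/
lemma isZero_restrict_of_fromSpec {M : X.Modules} {U : X.Opens} (hU : IsAffineOpen U)
    (h : IsZero ((Scheme.Modules.restrictFunctor hU.fromSpec).obj M)) : IsZero (M.restrict U.ι) :=
  ((Scheme.Modules.restrictFunctor hU.isoSpec.hom).map_isZero h).of_iso
    (((Scheme.Modules.restrictFunctorCongr hU.isoSpec_hom_fromSpec.symm).app M) ≪≫
      (Scheme.Modules.restrictFunctorComp hU.isoSpec.hom hU.fromSpec).app M)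

lemma isCoh_restrict_of_fromSpec {M : X.Modules} {U : X.Opens} (hU : IsAffineOpen U)
    (h : Coh.IsCoh ((Scheme.Modules.restrictFunctor hU.fromSpec).obj M)) : Coh.IsCoh (M.restrict U.ι) :=
  Groth.QCohMod.isCoh_of_iso
    (((Scheme.Modules.restrictFunctorCongr hU.isoSpec_hom_fromSpec.symm).app M) ≪≫
      (Scheme.Modules.restrictFunctorComp hU.isoSpec.hom hU.fromSpec).app M).symm
    (Groth.SheafExt.isCoh_restrictFunctor hU.isoSpec.hom h)

/-- isomorphisms can be checked on affine charts -/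
theorem isIso_of_fromSpec {A B : DCoh.D X} (f : A ⟶ B)
    (h : ∀ (U : X.Opens) (hU : IsAffineOpen U), IsIso ((DCoh.restrictD hU.fromSpec).map f)) :
    IsIso f := by
  obtain ⟨Z, g, k, hT⟩ := Pretriangulated.distinguished_cocone_triangle f
  refine Groth.DerivedCoh.Duality.isIso_of_local f fun x => ?_
  obtain ⟨U, hU, hx, -⟩ := exists_isAffineOpen_mem_and_subset (x := x) (U := ⊤) trivial
  refine ⟨U, hx, ?_⟩
  have h₃ : IsZero ((Groth.KTheory.Perf.Rd hU.fromSpec).obj Z) :=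
    (Pretriangulated.Triangle.isZero₃_iff_isIso₁ _
      ((Groth.KTheory.Perf.Rd hU.fromSpec).map_distinguished _ hT)).2 (h U hU)
  have hz : ∀ i, IsZero (DCoh.HD ((Groth.KTheory.Perf.Rd U.ι).obj Z) i) := fun i => by
    obtain ⟨c⟩ := Groth.KTheory.Perf.nonempty_hdRd hU.fromSpec Z i
    obtain ⟨c'⟩ := Groth.KTheory.Perf.nonempty_hdRd U.ι Z i
    exact (isZero_restrict_of_fromSpec hU
      (((DerivedCategory.homologyFunctor _ i).map_isZero h₃).of_iso c.symm)).of_iso c'
  refine (Pretriangulated.Triangle.isZero₃_iff_isIso₁ _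
    ((Groth.KTheory.Perf.Rd U.ι).map_distinguished _ hT)).1 ?_
  have h0 : IsIso (0 : ((Groth.KTheory.Perf.Rd U.ι).obj Z) ⟶ ((Groth.KTheory.Perf.Rd U.ι).obj Z)) := by
    rw [DerivedCategory.isIso_iff]
    exact fun i => isIso_of_source_target_iso_zero _ (hz i).isoZero (hz i).isoZero
  haveI := h0
  exact (IsZero.iff_id_eq_zero _).2
    ((IsIso.hom_inv_id (0 : ((Groth.KTheory.Perf.Rd U.ι).obj Z) ⟶ ((Groth.KTheory.Perf.Rd U.ι).obj Z))).symm.trans
      zero_comp)

/-- `RHom(L, -)` only depends on `L` through a resolution -/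
theorem nonempty_rhom_flatResolution (L : CochainComplex X.Modules ℤ) [DCoh.HasLTensorCx L]
    [DCoh.HasRSheafHom L] [DCoh.HasLTensorCx ((KFlat.flatResolution X).obj L)]
    [DCoh.HasRSheafHom ((KFlat.flatResolution X).obj L)] :
    Nonempty (DCoh.RSheafHom L ≅ DCoh.RSheafHom ((KFlat.flatResolution X).obj L)) := by
  let π : (KFlat.flatResolution X).obj L ⟶ L := (KFlat.flatResolutionAug X).app L
  haveI : QuasiIso π := KFlat.flatResolution_quasiIso L
  let c := Groth.DerivedCoh.Duality.ltcxMapIso' π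
  exact ⟨((DCoh.RSheafHomAdj L).ofNatIsoLeft c.symm).rightAdjointUniq (DCoh.RSheafHomAdj _)⟩

variable [IsLocallyNoetherian X]
  [∀ (U : Scheme.{u}) (j : U ⟶ X) [IsOpenImmersion j], PreservesFiniteLimits (Scheme.Modules.restrictFunctor j)]
  [∀ (R : CommRingCat.{u}), PreservesFiniteLimits (tilde.functor R)]

/-- `RHom(L, K)` is coherent -/
theorem isCohD_rhom_dualizing {K : DCoh.D X} (hK : Dual2.IsDualizingSch X K)
    (L : CochainComplex X.Modules ℤ) (hL : DCoh.IsCohD (DCoh.toD X L)) [DCoh.HasLTensorCx L]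
    [DCoh.HasRSheafHom L] : DCoh.IsCohD ((DCoh.RSheafHom L).obj K) := fun i =>
  Groth.KTheory.Perf.isCoh_of_local fun x => by
    obtain ⟨U, hU, hx, -⟩ := exists_isAffineOpen_mem_and_subset (x := x) (U := ⊤) trivial
    refine ⟨U, hx, isCoh_restrict_of_fromSpec hU ?_⟩
    haveI : IsNoetherianRing Γ(X, U) := IsLocallyNoetherian.component_noetherian ⟨U, hU⟩
    obtain ⟨ω, hω, ⟨eω⟩⟩ := hK Γ(X, U) hU.fromSpec
    let L₀ := (KFlat.flatResolution X).obj L
    let π : (KFlat.flatResolution X).obj L ⟶ L := (KFlat.flatResolutionAug X).app L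
    haveI : QuasiIso π := KFlat.flatResolution_quasiIso L
    haveI : IsIso (DerivedCategory.Q.map π) :=
      (DerivedCategory.isIso_Q_map_iff_quasiIso _ _).2 inferInstance
    haveI := KFlat.hasLTensorCx L₀
    haveI := Groth.AffDual.QCohRHom.hasRSheafHom L₀
    obtain ⟨c⟩ := nonempty_rhom_flatResolution L
    let Lr := (resCx hU.fromSpec).obj L₀
    haveI := KFlat.hasLTensorCx Lr
    haveI := Groth.AffDual.QCohRHom.hasRSheafHom Lr
    have hLr : DCoh.IsCohD (DCoh.toD _ Lr) := isCohD_of_iso (rdQ hU.fromSpec L₀)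
      (Groth.IntMult.CohDTensor.isCohD_restrict hU.fromSpec (isCohD_of_iso (asIso (DerivedCategory.Q.map π)).symm hL))
    obtain ⟨K', hK', ⟨eK'⟩⟩ := exists_model hLr
    obtain ⟨T, hT, ⟨cT⟩, -⟩ := exists_rhom_model ω hω Lr K' hK' eK'
    obtain ⟨d⟩ := Groth.KTheory.Perf.nonempty_hdRd hU.fromSpec ((DCoh.RSheafHom L).obj K) i
    exact Groth.QCohMod.isCoh_of_iso ((DerivedCategory.homologyFunctor _ i).mapIso
      ((DCoh.restrictD hU.fromSpec).mapIso (c.app K) ≪≫ (restrRHomIso hU.fromSpec L₀).app K ≪≫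
        (DCoh.RSheafHom Lr).mapIso eω ≪≫ cT).symm ≪≫ d) (isCohD_tildeD _ hT i)

/-- biduality -/
theorem nonempty_bidual {K : DCoh.D X} (hK : Dual2.IsDualizingSch X K)
    (L : CochainComplex X.Modules ℤ) (hL : DCoh.IsCohD (DCoh.toD X L)) [DCoh.HasLTensorCx L]
    [DCoh.HasRSheafHom L] (M : CochainComplex X.Modules ℤ) [DCoh.HasLTensorCx M]
    [DCoh.HasRSheafHom M] (e : DCoh.toD X M ≅ (DCoh.RSheafHom L).obj K) :
    Nonempty ((DCoh.RSheafHom M).obj K ≅ DCoh.toD X L) := by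
  obtain ⟨N, ⟨eN⟩⟩ := Groth.KTheory.Perf.exists_rep K
  let L₀ := (KFlat.flatResolution X).obj L
  let π : (KFlat.flatResolution X).obj L ⟶ L := (KFlat.flatResolutionAug X).app L
  haveI : QuasiIso π := KFlat.flatResolution_quasiIso L
  haveI : IsIso (DerivedCategory.Q.map π) :=
    (DerivedCategory.isIso_Q_map_iff_quasiIso _ _).2 inferInstance
  have hL₀ := KFlat.flatResolution_isKFlat L
  haveI := KFlat.hasLTensorCx L₀
  haveI := Groth.AffDual.QCohRHom.hasRSheafHom L₀
  obtain ⟨cL⟩ := nonempty_rhom_flatResolution L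
  let D := (KFlat.flatResolution X).obj M
  let ρ := (KFlat.flatResolutionAug X).app M
  haveI : QuasiIso ρ := KFlat.flatResolution_quasiIso M
  haveI : IsIso (DerivedCategory.Q.map ρ) :=
    (DerivedCategory.isIso_Q_map_iff_quasiIso _ _).2 inferInstance
  have hD := KFlat.flatResolution_isKFlat M
  haveI := KFlat.hasLTensorCx D
  haveI := Groth.AffDual.QCohRHom.hasRSheafHom D
  obtain ⟨cM⟩ := nonempty_rhom_flatResolution M
  let eD : DCoh.toD X D ≅ (DCoh.RSheafHom L₀).obj (DCoh.toD X N) :=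
    asIso (DerivedCategory.Q.map ρ) ≪≫ e ≪≫ cL.app K ≪≫ (DCoh.RSheafHom L₀).mapIso eN.symm
  let b : DCoh.toD X ((totL (T X) L₀).obj D) ⟶ DCoh.toD X N :=
    (iot L₀ D (isKFlat_flip hD)).inv ≫ ((DCoh.RSheafHomAdj L₀).homEquiv _ _).symm eD.hom
  have hb : IsIso ((DCoh.RSheafHomAdj L₀).homEquiv _ _ ((iot L₀ D (isKFlat_flip hD)).hom ≫ b)) := by
    rw [Iso.hom_inv_id_assoc, Equiv.apply_symm_apply]
    infer_instance
  let α := (DCoh.RSheafHomAdj D).homEquiv _ _
    ((iot D L₀ (isKFlat_flip hL₀)).hom ≫ DerivedCategory.Q.map (brL L₀ D) ≫ b)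
  haveI : IsIso α := isIso_of_fromSpec α fun U hU => by
    haveI : IsNoetherianRing Γ(X, U) := IsLocallyNoetherian.component_noetherian ⟨U, hU⟩
    obtain ⟨ω, hω, ⟨eω⟩⟩ := hK Γ(X, U) hU.fromSpec
    let j := hU.fromSpec
    haveI := KFlat.hasLTensorCx ((resCx j).obj L₀)
    haveI := KFlat.hasLTensorCx ((resCx j).obj D)
    have hLV : IsKFlat (T _) ((resCx j).obj L₀) := PCoh.isKFlat_rc j hL₀
    have hDV : IsKFlat (T _) ((resCx j).obj D) := PCoh.isKFlat_rc j hD
    have hF : FlipAt (DCoh.toD _ ((resCx j).obj N)) ((resCx j).obj L₀) hLV :=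
      flipAt_affine ω hω _ ((rdQ j N).symm ≪≫ (DCoh.restrictD j).mapIso eN ≪≫ eω) _ hLV
        (isCohD_of_iso (rdQ j L₀) (Groth.IntMult.CohDTensor.isCohD_restrict j
          (isCohD_of_iso (asIso (DerivedCategory.Q.map π)).symm hL)))
    have h₁ : Rep _ _ (isKFlat_flip hDV) (bR j b) :=
      (restrict_isIso_iff j L₀ (isKFlat_flip hD) (isKFlat_flip hDV) b).1 (have := hb; inferInstance)
    have h₂ := hF _ hDV _ h₁
    refine (restrict_isIso_iff j D (isKFlat_flip hL₀) (isKFlat_flip hLV)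
      (DerivedCategory.Q.map (brL L₀ D) ≫ b)).2 ?_
    have e₃ : bR j (DerivedCategory.Q.map (brL L₀ D) ≫ b) =
        DerivedCategory.Q.map (brL ((resCx j).obj L₀) ((resCx j).obj D)) ≫ bR j b := by
      rw [bR, bR, resHom_comp, resHom_Q, ← Functor.map_comp_assoc, ← Functor.map_comp_assoc]
      exact congrArg (fun z => DerivedCategory.Q.map z ≫ resHom j b) (br_rtHom j L₀ D).symm
    rw [e₃]
    exact h₂
  exact ⟨cM.app K ≪≫ (DCoh.RSheafHom D).mapIso eN.symm ≪≫ (asIso α).symm ≪≫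
    asIso (DerivedCategory.Q.map π)⟩

end Groth.AffDual.Bidual
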