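import Groth.Agent.DerivedCoh.Duality.Biduality
import Groth.Agent.AffDual.QCohRHom

/-!
Biduality from abstract biduality: the transposed pairing of a representing pairing represents.
-/

universe u

open CategoryTheory CategoryTheory.Limits AlgebraicGeometry HomologicalComplex

namespace Groth.AffDual.Flip

open Groth.DerivedCoh Groth.DerivedCoh.Duality
open Groth.DerivedCoh.KFlat (T IsKFlat tot totL totR)

attribute [local instance] HasDerivedCategory.standard

set_option maxHeartbeats 1000000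

local notation "up" => ComplexShape.up ℤ

variable {X : Scheme.{u}}

/-- every representing pairing out of `L` flips to a representing pairing -/
def FlipAt (M : DCoh.D X) (L : CochainComplex X.Modules ℤ) (hL : IsKFlat (T X) L)
    [DCoh.HasLTensorCx L] : Prop :=
  ∀ (D : CochainComplex X.Modules ℤ) (hD : IsKFlat (T X) D) [DCoh.HasLTensorCx D]
    (b : DCoh.toD X ((totL (T X) L).obj D) ⟶ M),
    Rep L D (isKFlat_flip hD) b →
      Rep D L (isKFlat_flip hL) (DerivedCategory.Q.map (brL L D) ≫ b)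

lemma flipAt_map_iff {M : DCoh.D X} {K' K : CochainComplex X.Modules ℤ} (hK' : IsKFlat (T X) K')
    (hK : IsKFlat (T X) K) (s : K' ⟶ K) [QuasiIso s] [DCoh.HasLTensorCx K'] [DCoh.HasLTensorCx K] :
    FlipAt M K' hK' ↔ FlipAt M K hK := by
  have e : ∀ {D : CochainComplex X.Modules ℤ} (b : DCoh.toD X ((totL (T X) K).obj D) ⟶ M),
      DerivedCategory.Q.map (brL K' D) ≫ DerivedCategory.Q.map (tMap D s) ≫ b =
        DerivedCategory.Q.map ((totL (T X) D).map s) ≫ DerivedCategory.Q.map (brL K D) ≫ b := by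
    intro D b
    rw [← Functor.map_comp_assoc, ← Functor.map_comp_assoc, brL_tMap]
  constructor
  · intro h D hD _ b hb
    have h' := h D hD _ ((rep_tMap_iff hK' hK s D _ b).2 hb)
    rw [e] at h'
    exact (rep_totL_iff _ _ s _).1 h'
  · intro h D hD _ b hb
    have := isIso_Q_tMap (isKFlat_flip hD) s
    have hb' : DerivedCategory.Q.map (tMap D s) ≫ inv (DerivedCategory.Q.map (tMap D s)) ≫ b = b :=
      IsIso.hom_inv_id_assoc _ _
    have h' := h D hD _ ((rep_tMap_iff hK' hK s D _ _).1 (hb'.symm ▸ hb))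
    have h'' := (rep_totL_iff (isKFlat_flip hK) (isKFlat_flip hK') s _).2 h'
    rw [← e, hb'] at h''
    exact h''

/-- a roof of K-flat complexes -/
lemma exists_roof {K E : CochainComplex X.Modules ℤ} (a : DCoh.toD X K ⟶ DCoh.toD X E) :
    ∃ (A : CochainComplex X.Modules ℤ) (s : A ⟶ K) (g : A ⟶ E),
      IsKFlat (T X) A ∧ QuasiIso s ∧ DerivedCategory.Q.map g = DerivedCategory.Q.map s ≫ a := by
  obtain ⟨A, s, hs, g, hfac⟩ := DerivedCategory.right_fac a
  let π := (KFlat.flatResolutionAug X).app A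
  have : QuasiIso π := KFlat.flatResolution_quasiIso A
  have hs' := (DerivedCategory.isIso_Q_map_iff_quasiIso _ s).1 hs
  refine ⟨_, π ≫ s, π ≫ g, KFlat.flatResolution_isKFlat A, inferInstance, ?_⟩
  rw [Functor.map_comp, Functor.map_comp, Category.assoc, hfac, IsIso.hom_inv_id_assoc]

lemma flipAt_congr {M : DCoh.D X} {K E : CochainComplex X.Modules ℤ} (hK : IsKFlat (T X) K)
    (hE : IsKFlat (T X) E) (e : DCoh.toD X K ≅ DCoh.toD X E) [DCoh.HasLTensorCx K]
    [DCoh.HasLTensorCx E] (h : FlipAt M E hE) : FlipAt M K hK := by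
  obtain ⟨A, s, g, hA, hs, hg⟩ := exists_roof e.hom
  haveI := hs
  haveI : IsIso (DerivedCategory.Q.map s) := (DerivedCategory.isIso_Q_map_iff_quasiIso _ s).2 hs
  haveI : QuasiIso g := by
    rw [← DerivedCategory.isIso_Q_map_iff_quasiIso, hg]
    infer_instance
  have := KFlat.hasLTensorCx A
  exact (flipAt_map_iff hA hK s).1 ((flipAt_map_iff hA hE g).2 h)

/-- `iot` against a quasi-isomorphism on the right -/
lemma phi_Q {K C C' : CochainComplex X.Modules ℤ} [DCoh.HasLTensorCx K]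
    (hC : IsKFlat (T X).flip C) (hC' : IsKFlat (T X).flip C') (f : C' ⟶ C) {M : DCoh.D X}
    (b : DCoh.toD X ((totL (T X) K).obj C) ⟶ M) :
    phi K C hC b (DerivedCategory.Q.map f) =
      (iot K C' hC').hom ≫ DerivedCategory.Q.map ((totL (T X) K).map f) ≫ b := by
  rw [phi, reassoc_of% (iot_natural K hC' hC f)]

/-- the flip of a pairing representing the dual of a dual represents, if splittings between
isomorphic duals are isomorphisms -/
theorem rep_flip_of_dual {M : DCoh.D X} {L D E F : CochainComplex X.Modules ℤ} (hL : IsKFlat (T X) L)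
    (hD : IsKFlat (T X) D) (hE : IsKFlat (T X) E) (hF : IsKFlat (T X) F) [DCoh.HasLTensorCx L]
    [DCoh.HasLTensorCx D] [DCoh.HasLTensorCx E]
    (b : DCoh.toD X ((totL (T X) L).obj D) ⟶ M) (hb : Rep L D (isKFlat_flip hD) b)
    (c : DCoh.toD X ((totL (T X) D).obj E) ⟶ M) (hc : Rep D E (isKFlat_flip hE) c)
    (d : DCoh.toD X ((totL (T X) E).obj F) ⟶ M) (hd : Rep E F (isKFlat_flip hF) d)
    (hsplit : ∀ (a : DCoh.toD X D ⟶ DCoh.toD X F) (r : DCoh.toD X F ⟶ DCoh.toD X D),
      a ≫ r = 𝟙 _ → IsIso a) :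
    Rep E D (isKFlat_flip hD) (DerivedCategory.Q.map (brL D E) ≫ c) := by
  -- the evaluation `L ⟶ E`
  obtain ⟨α, hα⟩ := (hc (DCoh.toD X L)).2
    ((iot D L (isKFlat_flip hL)).hom ≫ DerivedCategory.Q.map (brL L D) ≫ b)
  obtain ⟨L₁, s, g, hL₁, hs, hg⟩ := exists_roof α
  haveI := hs
  haveI := KFlat.hasLTensorCx L₁
  have hb₁ : Rep L₁ D (isKFlat_flip hD) (DerivedCategory.Q.map (tMap D s) ≫ b) :=
    (rep_tMap_iff hL₁ hL s D _ b).2 hb
  -- (B) in `D ⊗ L₁`
  have hB : DerivedCategory.Q.map (tMap D g) ≫ DerivedCategory.Q.map (brL D E) ≫ c =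
      DerivedCategory.Q.map (tMap D s) ≫ b := by
    have h₁ : DerivedCategory.Q.map ((totL (T X) D).map g) ≫ c =
        DerivedCategory.Q.map ((totL (T X) D).map s) ≫ DerivedCategory.Q.map (brL L D) ≫ b := by
      rw [← cancel_epi (iot D L₁ (isKFlat_flip hL₁)).hom, ← phi_Q (isKFlat_flip hE) _ g c,
        ← phi_Q (isKFlat_flip hL) (isKFlat_flip hL₁) s (DerivedCategory.Q.map (brL L D) ≫ b), hg]
      simp only [phi, Functor.map_comp, Category.assoc] at hα ⊢
      rw [hα]
    rw [← Functor.map_comp_assoc (f := tMap D g), tMap_brL, Functor.map_comp_assoc, h₁,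
      ← Functor.map_comp_assoc (g := brL L D), ← Functor.map_comp_assoc, brL_tMap]
    have : brL D L₁ ≫ brL L₁ D = 𝟙 _ := br_br D L₁
    rw [reassoc_of% this]
  -- the retraction
  obtain ⟨r, hr⟩ := (hb₁ (DCoh.toD X F)).2
    ((iot L₁ F (isKFlat_flip hF)).hom ≫ DerivedCategory.Q.map (tMap F g) ≫ d)
  obtain ⟨F₁, u, h, hF₁, hu, hh⟩ := exists_roof r
  haveI := hu
  have hA : DerivedCategory.Q.map ((totL (T X) L₁).map h) ≫ DerivedCategory.Q.map (tMap D s) ≫ b =
      DerivedCategory.Q.map ((totL (T X) L₁).map u) ≫ DerivedCategory.Q.map (tMap F g) ≫ d := by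
    rw [← cancel_epi (iot L₁ F₁ (isKFlat_flip hF₁)).hom,
      ← phi_Q (isKFlat_flip hD) _ h (DerivedCategory.Q.map (tMap D s) ≫ b),
      ← phi_Q (isKFlat_flip hF) (isKFlat_flip hF₁) u (DerivedCategory.Q.map (tMap F g) ≫ d), hh]
    simp only [phi, Functor.map_comp, Category.assoc] at hr ⊢
    rw [hr]
  -- the evaluation `D ⟶ F`
  obtain ⟨a, ha⟩ := (hd (DCoh.toD X D)).2
    ((iot E D (isKFlat_flip hD)).hom ≫ DerivedCategory.Q.map (brL D E) ≫ c)
  obtain ⟨D₁, v, a', hD₁, hv, ha'⟩ := exists_roof a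
  haveI := hv
  have hC : DerivedCategory.Q.map ((totL (T X) E).map a') ≫ d =
      DerivedCategory.Q.map ((totL (T X) E).map v) ≫ DerivedCategory.Q.map (brL D E) ≫ c := by
    rw [← cancel_epi (iot E D₁ (isKFlat_flip hD₁)).hom, ← phi_Q (isKFlat_flip hF) _ a' d,
      ← phi_Q (isKFlat_flip hD) (isKFlat_flip hD₁) v (DerivedCategory.Q.map (brL D E) ≫ c), ha']
    simp only [phi, Functor.map_comp, Category.assoc] at ha ⊢
    rw [ha]
  haveI : IsIso (DerivedCategory.Q.map v) := (DerivedCategory.isIso_Q_map_iff_quasiIso _ v).2 hv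
  have har : a ≫ r = 𝟙 _ := by
    rw [← cancel_epi (DerivedCategory.Q.map v), Category.comp_id]
    apply (hb₁ _).1
    rw [phi_Q (isKFlat_flip hD) (isKFlat_flip hD₁) v, ← reassoc_of% ha']
    have nat : ∀ {C' C : CochainComplex X.Modules ℤ} (f : C' ⟶ C) {K' K : CochainComplex X.Modules ℤ}
        (k : K' ⟶ K), (totL (T X) K').map f ≫ tMap C k = tMap C' k ≫ (totL (T X) K).map f := by
      intro C' C f K' K k
      exact (((T X).map₂CochainComplex.map f).naturality k).symm
    obtain ⟨D₂, w, a'', hD₂, hw, ha''⟩ := exists_roof (DerivedCategory.Q.map a' ≫ inv (DerivedCategory.Q.map u))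
    haveI := hw
    haveI : IsIso (DerivedCategory.Q.map w) := (DerivedCategory.isIso_Q_map_iff_quasiIso _ w).2 hw
    haveI : IsIso (DerivedCategory.Q.map u) := (DerivedCategory.isIso_Q_map_iff_quasiIso _ u).2 hu
    have hau : DerivedCategory.Q.map (a'' ≫ u) = DerivedCategory.Q.map (w ≫ a') := by
      rw [Functor.map_comp, Functor.map_comp, ha'']
      simp
    haveI : IsIso ((DCoh.LTensorCx L₁).map (DerivedCategory.Q.map w)) := inferInstance
    rw [← cancel_epi ((DCoh.LTensorCx L₁).map (DerivedCategory.Q.map w))]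
    rw [phi, ← Functor.map_comp_assoc, ← Category.assoc (DerivedCategory.Q.map w), ← Functor.map_comp,
      show DerivedCategory.Q.map (w ≫ a') ≫ r = DerivedCategory.Q.map (a'' ≫ h) by
        rw [← hau, Functor.map_comp, Functor.map_comp, Category.assoc, hh],
      reassoc_of% (iot_natural L₁ (isKFlat_flip hD₂) (isKFlat_flip hD) (a'' ≫ h)),
      reassoc_of% (iot_natural L₁ (isKFlat_flip hD₂) (isKFlat_flip hD₁) w)]
    refine congrArg (_ ≫ ·) ?_
    rw [Functor.map_comp, Functor.map_comp, Category.assoc, hA]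
    have h₂ : DerivedCategory.Q.map ((totL (T X) L₁).map (a'' ≫ u)) =
        DerivedCategory.Q.map ((totL (T X) L₁).map (w ≫ a')) := by
      have hL₁' := isKFlat_flip hD₂
      rw [← cancel_epi (iot L₁ D₂ hL₁').hom, ← iot_natural L₁ hL₁' (isKFlat_flip hF),
        ← iot_natural L₁ hL₁' (isKFlat_flip hF), hau]
    rw [← Functor.map_comp_assoc (g := (totL (T X) L₁).map u), ← Functor.map_comp, h₂,
      Functor.map_comp (totL (T X) L₁), Functor.map_comp, Category.assoc]
    refine congrArg (_ ≫ ·) ?_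
    rw [← Functor.map_comp_assoc, nat, Functor.map_comp_assoc, hC, ← Functor.map_comp_assoc, ← nat,
      Functor.map_comp_assoc, hB]
  haveI := hsplit a r har
  haveI : IsIso (DerivedCategory.Q.map a') := by rw [ha']; infer_instance
  haveI : QuasiIso a' := (DerivedCategory.isIso_Q_map_iff_quasiIso _ a').1 inferInstance
  have h₃ := (rep_totL_iff (K := E) (isKFlat_flip hF) (isKFlat_flip hD₁) a' d).2 hd
  rw [hC] at h₃
  exact (rep_totL_iff (K := E) (isKFlat_flip hD) (isKFlat_flip hD₁) v _).1 h₃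

/-- representing pairings exist -/
theorem exists_rep_pair (K : CochainComplex X.Modules ℤ) [DCoh.HasLTensorCx K] (M : DCoh.D X) :
    ∃ (D : CochainComplex X.Modules ℤ) (hD : IsKFlat (T X) D)
      (b : DCoh.toD X ((totL (T X) K).obj D) ⟶ M), Rep K D (isKFlat_flip hD) b := by
  haveI := Groth.AffDual.QCohRHom.hasRSheafHom K
  let R := (DCoh.RSheafHom K).obj M
  obtain ⟨C, ⟨e⟩⟩ := Groth.KTheory.Perf.exists_rep R
  let π := (KFlat.flatResolutionAug X).app C
  haveI : QuasiIso π := KFlat.flatResolution_quasiIso C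
  haveI : IsIso (DerivedCategory.Q.map π) :=
    (DerivedCategory.isIso_Q_map_iff_quasiIso _ _).2 inferInstance
  have hD := KFlat.flatResolution_isKFlat C
  refine ⟨_, hD, (iot K _ (isKFlat_flip hD)).inv ≫
    ((DCoh.RSheafHomAdj K).homEquiv _ _).symm (DerivedCategory.Q.map π ≫ e.hom), ?_⟩
  rw [rep_iff K (DCoh.RSheafHomAdj K), Iso.hom_inv_id_assoc, Equiv.apply_symm_apply]
  infer_instance

/-- a representing pairing identifies the representing complex -/
theorem nonempty_iso_rhom {K D : CochainComplex X.Modules ℤ} [DCoh.HasLTensorCx K]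
    [DCoh.HasRSheafHom K] (hD : IsKFlat (T X).flip D) {M : DCoh.D X}
    {b : DCoh.toD X ((totL (T X) K).obj D) ⟶ M} (hb : Rep K D hD b) :
    Nonempty (DCoh.toD X D ≅ (DCoh.RSheafHom K).obj M) :=
  haveI := (rep_iff K (DCoh.RSheafHomAdj K) D hD b).1 hb
  ⟨asIso ((DCoh.RSheafHomAdj K).homEquiv _ _ ((iot K D hD).hom ≫ b))⟩

/-- abstract biduality gives biduality -/
theorem flipAt_of_abstract (P : DCoh.D X → Prop) (hP : ∀ {A B : DCoh.D X}, (A ≅ B) → P A → P B)
    (M : DCoh.D X)
    (hdual : ∀ (L D : CochainComplex X.Modules ℤ) (_ : IsKFlat (T X) L) (hD : IsKFlat (T X) D)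
      [DCoh.HasLTensorCx L] (b : DCoh.toD X ((totL (T X) L).obj D) ⟶ M),
      P (DCoh.toD X L) → Rep L D (isKFlat_flip hD) b → P (DCoh.toD X D))
    (hbidual : ∀ (L D E : CochainComplex X.Modules ℤ) (_ : IsKFlat (T X) L) (hD : IsKFlat (T X) D)
      (hE : IsKFlat (T X) E) [DCoh.HasLTensorCx L] [DCoh.HasLTensorCx D]
      (b : DCoh.toD X ((totL (T X) L).obj D) ⟶ M) (c : DCoh.toD X ((totL (T X) D).obj E) ⟶ M),
      P (DCoh.toD X L) → Rep L D (isKFlat_flip hD) b → Rep D E (isKFlat_flip hE) c →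
        Nonempty (DCoh.toD X E ≅ DCoh.toD X L))
    (hsplit : ∀ {A B : DCoh.D X} (a : A ⟶ B) (r : B ⟶ A), P A → (B ≅ A) → a ≫ r = 𝟙 _ → IsIso a)
    (L : CochainComplex X.Modules ℤ) (hL : IsKFlat (T X) L) [DCoh.HasLTensorCx L]
    (hPL : P (DCoh.toD X L)) : FlipAt M L hL := by
  -- one step: the flip of a bidual pairing
  have step : ∀ (L D E : CochainComplex X.Modules ℤ) (hL : IsKFlat (T X) L) (hD : IsKFlat (T X) D)
      (hE : IsKFlat (T X) E) [DCoh.HasLTensorCx L] [DCoh.HasLTensorCx D] [DCoh.HasLTensorCx E]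
      (b : DCoh.toD X ((totL (T X) L).obj D) ⟶ M) (c : DCoh.toD X ((totL (T X) D).obj E) ⟶ M),
      P (DCoh.toD X L) → Rep L D (isKFlat_flip hD) b → Rep D E (isKFlat_flip hE) c →
        Rep E D (isKFlat_flip hD) (DerivedCategory.Q.map (brL D E) ≫ c) := by
    intro L D E hL hD hE _ _ _ b c hPL hb hc
    obtain ⟨F, hF, d, hd⟩ := exists_rep_pair E M
    obtain ⟨e⟩ := hbidual D E F hD hE hF c d (hdual L D hL hD b hPL hb) hc hd
    exact rep_flip_of_dual hL hD hE hF b hb c hc d hd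
      fun a r => hsplit a r (hdual L D hL hD b hPL hb) e
  obtain ⟨D, hD, b, hb⟩ := exists_rep_pair L M
  haveI := KFlat.hasLTensorCx D
  obtain ⟨E, hE, c, hc⟩ := exists_rep_pair D M
  haveI := KFlat.hasLTensorCx E
  obtain ⟨e⟩ := hbidual L D E hL hD hE b c hPL hb hc
  refine flipAt_congr hL hE e.symm fun F hF _ d hd => ?_
  exact step D E F hD hE hF c d (hdual L D hL hD b hPL hb) hc hd

end Groth.AffDual.Flip
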