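import Groth.Agent.Misc4.QCohDTensor
import Groth.Agent.Misc4.QCohDRHom
import Groth.Agent.DerivedCoh.KInj.Products

/-!
`RHom(E, L)` in a given degree only depends on a truncation of `E`, for `L` a bounded complex of
injectives.
-/

universe u

open CategoryTheory CategoryTheory.Limits AlgebraicGeometry HomologicalComplex Pretriangulated

namespace Groth.AffDual.HighTail

open Groth.DerivedCoh.KFlat (T IsKFlat tot totL totR flatResolution)
open Groth.Misc4.QCohDRHom (bijective_precomp)

attribute [local instance] HasDerivedCategory.standard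

set_option maxHeartbeats 1000000
set_option backward.isDefEq.respectTransparency false

local notation "up" => ComplexShape.up ℤ

variable {X : Scheme.{u}}

/-- every module is a quotient of a flat one -/
lemma exists_epi_flat (M : X.Modules) : ∃ (F : X.Modules) (p : F ⟶ M), FlatMod.IsFlat F ∧ Epi p :=
  ⟨_, (Groth.DerivedCoh.KFlat.schemeCover X).π.app M,
    Groth.DerivedCoh.KFlat.isFlat_coverObj M, (Groth.DerivedCoh.KFlat.schemeCover X).epi M⟩

/-- an object receiving no maps from flat modules placed in degree `k` has no cohomology there -/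
theorem isZero_hd_of_hom (Z : DCoh.D X) (k : ℤ)
    (h : ∀ F : X.Modules, FlatMod.IsFlat F →
      ∀ f : DCoh.toD X ((single X.Modules up k).obj F) ⟶ Z, f = 0) :
    IsZero (DCoh.HD Z k) := by
  obtain ⟨C, ⟨e⟩⟩ := Groth.KTheory.Perf.exists_rep Z
  obtain ⟨F, p, hF, hp⟩ := exists_epi_flat (C.cycles k)
  let f : (single X.Modules up k).obj F ⟶ C :=
    mkHomFromSingle (p ≫ C.iCycles k) fun l _ => by rw [Category.assoc, iCycles_d, comp_zero]
  have h0 : DerivedCategory.Q.map f = 0 := by
    rw [← cancel_mono e.hom, zero_comp]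
    exact h F hF _
  have h1 : homologyMap f k = 0 := by
    have := (DerivedCategory.homologyFunctorFactors X.Modules k).hom.naturality f
    simp only [Functor.comp_map, h0, Functor.map_zero, zero_comp] at this
    exact (cancel_epi _).1 (this.symm.trans comp_zero.symm)
  have h2 : p ≫ C.homologyπ k = 0 := by
    have hc : (singleObjCyclesSelfIso up k F).inv ≫ cyclesMap f k = p := by
      rw [← cancel_mono (C.iCycles k), Category.assoc, cyclesMap_i,
        singleObjCyclesSelfIso_inv_iCycles_assoc, mkHomFromSingle_f, Iso.inv_hom_id_assoc]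
    rw [← hc, Category.assoc, ← homologyπ_naturality, h1, comp_zero, comp_zero]
  have h3 : C.homologyπ k = 0 := (cancel_epi p).1 (h2.trans comp_zero.symm)
  have h4 : IsZero (C.homology k) := by
    rw [IsZero.iff_id_eq_zero, ← cancel_epi (C.homologyπ k), h3, zero_comp, zero_comp]
  exact h4.of_iso ((DerivedCategory.homologyFunctor X.Modules k).mapIso e.symm ≪≫
    (DerivedCategory.homologyFunctorFactors X.Modules k).app C)

/-- a map inducing bijections on maps out of flat modules in two degrees -/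
theorem isIso_hd_of_flat_bijective {R R' : DCoh.D X} (φ : R ⟶ R') (i : ℤ)
    (h : ∀ (k : ℤ), i - 1 ≤ k → k ≤ i + 1 → ∀ F : X.Modules, FlatMod.IsFlat F →
      Function.Bijective (fun a : DCoh.toD X ((single X.Modules up k).obj F) ⟶ R => a ≫ φ)) :
    IsIso ((DerivedCategory.homologyFunctor X.Modules i).map φ) := by
  obtain ⟨Z, v, w, hT⟩ := distinguished_cocone_triangle φ
  have key : ∀ k, i - 1 ≤ k → k ≤ i → IsZero (DCoh.HD Z k) := fun k hk hk' =>
    isZero_hd_of_hom Z k fun F hF f => by
      let S := DCoh.toD X ((single X.Modules up k).obj F)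
      let S' := DCoh.toD X ((single X.Modules up (k + 1)).obj F)
      let s : S'⟦(1 : ℤ)⟧ ≅ S := ((DerivedCategory.Q.commShiftIso (1 : ℤ)).app _).symm ≪≫
        DerivedCategory.Q.mapIso
          (((CochainComplex.singleFunctors X.Modules).shiftIso 1 k (k + 1) (by omega)).app F)
      have h₁ : f ≫ w = 0 := by
        obtain ⟨g, hg⟩ : ∃ g : S' ⟶ R, g⟦(1 : ℤ)⟧' = s.hom ≫ f ≫ w :=
          (shiftFunctor (DCoh.D X) (1 : ℤ)).map_surjective _
        have hz : w ≫ φ⟦(1 : ℤ)⟧' = 0 := comp_distTriang_mor_zero₃₁ _ hT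
        have hg0 : g ≫ φ = 0 := (shiftFunctor (DCoh.D X) (1 : ℤ)).map_injective (by
          rw [Functor.map_comp, hg, Functor.map_zero, Category.assoc, Category.assoc, hz, comp_zero,
            comp_zero])
        have hg1 : g = 0 := (h (k + 1) (by omega) (by omega) F hF).1 (hg0.trans zero_comp.symm)
        rw [hg1, Functor.map_zero] at hg
        exact (cancel_epi _).1 (hg.symm.trans comp_zero.symm)
      obtain ⟨g, hg⟩ := Triangle.coyoneda_exact₃ _ hT f h₁
      obtain ⟨a, ha⟩ := (h k hk (by omega) F hF).2 g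
      subst ha
      rw [hg]
      exact (Category.assoc a φ v).trans ((congrArg (a ≫ ·)
        (show φ ≫ v = 0 from comp_distTriang_mor_zero₁₂ _ hT)).trans comp_zero)
  haveI : Epi ((DerivedCategory.homologyFunctor X.Modules i).map φ) :=
    (DerivedCategory.HomologySequence.epi_homologyMap_mor₁_iff _ hT i).2
      ((key i (by omega) le_rfl).eq_of_tgt _ _)
  haveI : Mono ((DerivedCategory.homologyFunctor X.Modules i).map φ) :=
    (DerivedCategory.HomologySequence.mono_homologyMap_mor₁_iff _ hT (i - 1) i (by omega)).2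
      ((key (i - 1) le_rfl (by omega)).eq_of_src _ _)
  exact isIso_of_mono_of_epi _

/-- no maps from high degrees to a bounded complex of injectives -/
theorem eq_zero_of_isGE (I : CochainComplex X.Modules ℤ) (a b : ℤ) [I.IsStrictlyGE a]
    [I.IsStrictlyLE b] [∀ n, Injective (I.X n)] (D : DCoh.D X) (n : ℤ) [D.IsGE n] (hn : b < n)
    (f : D ⟶ DCoh.toD X I) : f = 0 := by
  haveI := CochainComplex.isKInjective_of_injective I a
  obtain ⟨C, hC, ⟨e⟩⟩ := D.exists_iso_Q_obj_of_isGE n
  obtain ⟨g, hg⟩ := Groth.DerivedCoh.KInjRes.Q_map_surjective C I (e.inv ≫ f)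
  have : g = 0 := HomologicalComplex.hom_ext _ _ fun q => by
    by_cases hq : q < n
    · exact (C.isZero_of_isStrictlyGE n q hq).eq_of_src _ _
    · exact (I.isZero_of_isStrictlyLE b q (by omega)).eq_of_tgt _ _
  rw [this, Functor.map_zero] at hg
  exact (cancel_epi e.inv).1 (hg.symm.trans comp_zero.symm)

/-- a flat module in one degree tensored with a complex exact below `n` -/
theorem isGE_tot_single (C : CochainComplex X.Modules ℤ) (n : ℤ) [C.IsGE n] {F : X.Modules}
    (hF : FlatMod.IsFlat F) (k : ℤ) :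
    (DCoh.toD X (tot (T X) ((single X.Modules up k).obj F) C)).IsGE (k + n) := by
  let G := (T X).obj F
  obtain ⟨hl, hr⟩ : PreservesFiniteLimits G ∧ PreservesFiniteColimits G :=
    ((Functor.exact_tfae G).out 0 3).1 (Groth.DerivedCoh.KFlat.flat_flip_of_isFlat hF)
  haveI h0 : (DCoh.toD X (tot (T X) ((single X.Modules up 0).obj F) C)).IsGE n := by
    rw [DerivedCategory.isGE_iff]
    intro j hj
    exact (G.map_isZero (C.isZero_of_isGE n j hj)).of_iso (Groth.DerivedCoh.KFlat.hdIso _ j ≪≫
      (HomologicalComplex.homologyFunctor X.Modules up j).mapIso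
        (Groth.DerivedCoh.KFlat.totSingleIso (T X) F C) ≪≫ (C.sc j).mapHomologyIso G)
  let e : (single X.Modules up k).obj F ≅ ((single X.Modules up 0).obj F)⟦(-k)⟧ :=
    ((CochainComplex.singleFunctors X.Modules).shiftIso (-k) k 0 (by omega)).symm.app F
  haveI : DerivedCategory.TStructure.t.IsGE
      ((DerivedCategory.Q ⋙ shiftFunctor (DerivedCategory X.Modules) (-k)).obj
        (tot (T X) ((single X.Modules up 0).obj F) C)) (k + n) :=
    DerivedCategory.TStructure.t.isGE_shift
      (DCoh.toD X (tot (T X) ((single X.Modules up 0).obj F) C)) n (-k) (k + n) (by omega)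
  exact DerivedCategory.TStructure.t.isGE_of_iso
    ((DerivedCategory.Q.commShiftIso (-k)).symm.app _ ≪≫
      DerivedCategory.Q.mapIso ((CochainComplex.mapBifunctorShift₁Iso _ C (T X) (-k)).symm ≪≫
        (totL (T X) C).mapIso e.symm)) (k + n)

/-- `- ⊗^L E'' ⟶ - ⊗^L E'`, induced by a morphism of complexes -/
noncomputable def ltcxMap {E' E : CochainComplex X.Modules ℤ} (g : E' ⟶ E) [DCoh.HasLTensorCx E']
    [DCoh.HasLTensorCx E] : DCoh.LTensorCx E' ⟶ DCoh.LTensorCx E :=
  Localization.liftNatTrans DerivedCategory.Q (HomologicalComplex.quasiIso X.Modules up)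
    (DerivedCategory.Q ⋙ DCoh.LTensorCx E') (DerivedCategory.Q ⋙ DCoh.LTensorCx E) _ _
    ((Groth.DerivedCoh.KFlat.ltcxResIso E').hom ≫
      Functor.whiskerLeft (flatResolution X)
        (Functor.whiskerRight ((DCoh.tensorCx (X := X)).flip.map g) DerivedCategory.Q) ≫
      (Groth.DerivedCoh.KFlat.ltcxResIso E).inv)

lemma ltcxMap_app {E' E : CochainComplex X.Modules ℤ} (g : E' ⟶ E) [DCoh.HasLTensorCx E']
    [DCoh.HasLTensorCx E] (C : CochainComplex X.Modules ℤ) :
    (ltcxMap g).app (DerivedCategory.Q.obj C) =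
      (Groth.DerivedCoh.KFlat.ltcxResIso E').hom.app C ≫
        DerivedCategory.Q.map ((totR (T X) ((flatResolution X).obj C)).map g) ≫
          (Groth.DerivedCoh.KFlat.ltcxResIso E).inv.app C := by
  rw [ltcxMap, Localization.liftNatTrans_app]
  simp [Localization.Lifting.iso]

/-- the comparison for a monomorphism with cokernel exact below `n` -/
theorem bijective_ltcxMap (S : ShortComplex (CochainComplex X.Modules ℤ)) (hS : S.ShortExact)
    (n : ℤ) [S.X₃.IsGE n] [DCoh.HasLTensorCx S.X₁] [DCoh.HasLTensorCx S.X₂]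
    (I : CochainComplex X.Modules ℤ) (a b : ℤ) [I.IsStrictlyGE a] [I.IsStrictlyLE b]
    [∀ q, Injective (I.X q)] (k : ℤ) (hk : b + 1 < k + n) {F : X.Modules} (hF : FlatMod.IsFlat F) :
    Function.Bijective
      (fun f : (DCoh.LTensorCx S.X₂).obj (DerivedCategory.Q.obj ((single X.Modules up k).obj F)) ⟶
        DCoh.toD X I => (ltcxMap S.f).app _ ≫ f) := by
  let P := (single X.Modules up k).obj F
  let P' := (flatResolution X).obj P
  have hex : ∀ p q, ((S.map (eval X.Modules up q)).map ((T X).obj (P'.X p))).ShortExact := fun p q =>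
    Groth.DerivedCoh.KFlat.flat_flip_of_isFlat (Groth.DerivedCoh.KFlat.flatResolution_isFlat P p) _
      (hS.map_of_exact (eval X.Modules up q))
  have hT := DerivedCategory.triangleOfSES_distinguished
    (Groth.DerivedCoh.KFlat.shortExact_totR (T X) P' S hex)
  haveI h₃ : (DCoh.toD X (tot (T X) P' S.X₃)).IsGE (k + n) := by
    haveI := Groth.DerivedCoh.KFlat.hasLTensorCx S.X₃
    have hP : IsKFlat (T X).flip P := Groth.DerivedCoh.KFlat.isKFlat_of_flat (T X).flip P k
      (fun q hq => isZero_single_obj_X up k F q (by omega)) fun q => by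
        by_cases hq : q = k
        · subst hq
          exact Groth.DerivedCoh.KFlat.Flat.of_iso (Groth.DerivedCoh.KFlat.flat_flip_of_isFlat hF)
            (singleObjXSelf up q F).symm
        · exact Groth.DerivedCoh.KFlat.flat_of_isZero _ (isZero_single_obj_X up k F q hq)
    haveI := Groth.DerivedCoh.KFlat.isIso_ltcxCounit_app S.X₃ P hP
    haveI : DerivedCategory.TStructure.t.IsGE ((DCoh.tensorCxQ S.X₃).obj P) (k + n) :=
      isGE_tot_single S.X₃ n hF k
    exact DerivedCategory.TStructure.t.isGE_of_iso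
      ((asIso ((Groth.DerivedCoh.KFlat.ltcxCounit S.X₃).app P)).symm ≪≫
        (Groth.DerivedCoh.KFlat.ltcxResIso S.X₃).app P) (k + n)
  haveI h₃' : ((DCoh.toD X (tot (T X) P' S.X₃))⟦(-1 : ℤ)⟧).IsGE (k + n + 1) :=
    DerivedCategory.TStructure.t.isGE_shift _ (k + n) (-1) (k + n + 1) (by omega)
  have hbij := bijective_precomp (L := DCoh.toD X I) _ hT
    (fun g => eq_zero_of_isGE I a b (DCoh.toD X (tot (T X) P' S.X₃)) (k + n) (by omega) g)
    (fun g => eq_zero_of_isGE I a b ((DCoh.toD X (tot (T X) P' S.X₃))⟦(-1 : ℤ)⟧) (k + n + 1) (by omega) g)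
  let e₁ := (Groth.DerivedCoh.KFlat.ltcxResIso S.X₁).app P
  let e₂ := (Groth.DerivedCoh.KFlat.ltcxResIso S.X₂).app P
  have : (fun f : (DCoh.LTensorCx S.X₂).obj (DerivedCategory.Q.obj P) ⟶ DCoh.toD X I =>
      (ltcxMap S.f).app _ ≫ f) =
      Iso.homFromEquiv e₁.symm ∘
        (fun f => DerivedCategory.Q.map ((totR (T X) P').map S.f) ≫ f) ∘ Iso.homFromEquiv e₂ := by
    funext f
    rw [ltcxMap_app]
    exact (Category.assoc _ _ _).trans (congrArg (_ ≫ ·) (Category.assoc _ _ _))
  rw [this]
  exact e₁.symm.homFromEquiv.bijective.comp (hbij.comp e₂.homFromEquiv.bijective)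

/-- `RHom(-, I)` in degree `i` for a monomorphism with cokernel exact below a high degree -/
theorem nonempty_hd_rhom_iso (S : ShortComplex (CochainComplex X.Modules ℤ)) (hS : S.ShortExact)
    (n : ℤ) [S.X₃.IsGE n] [DCoh.HasLTensorCx S.X₁] [DCoh.HasLTensorCx S.X₂]
    [DCoh.HasRSheafHom S.X₁] [DCoh.HasRSheafHom S.X₂]
    (I : CochainComplex X.Modules ℤ) (a b : ℤ) [I.IsStrictlyGE a] [I.IsStrictlyLE b]
    [∀ q, Injective (I.X q)] (i : ℤ) (hi : b + 2 < i + n) :
    Nonempty (DCoh.HD ((DCoh.RSheafHom S.X₂).obj (DCoh.toD X I)) i ≅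
      DCoh.HD ((DCoh.RSheafHom S.X₁).obj (DCoh.toD X I)) i) := by
  let L := DCoh.toD X I
  let adj₁ := DCoh.RSheafHomAdj S.X₁
  let adj₂ := DCoh.RSheafHomAdj S.X₂
  let φ : (DCoh.RSheafHom S.X₂).obj L ⟶ (DCoh.RSheafHom S.X₁).obj L :=
    adj₁.homEquiv _ _ ((ltcxMap S.f).app _ ≫ adj₂.counit.app L)
  have hb : ∀ (k : ℤ), i - 1 ≤ k → k ≤ i + 1 → ∀ F : X.Modules, FlatMod.IsFlat F →
      Function.Bijective (fun f : DCoh.toD X ((single X.Modules up k).obj F) ⟶
        (DCoh.RSheafHom S.X₂).obj L => f ≫ φ) := fun k hk hk' F hF => by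
    let P := DCoh.toD X ((single X.Modules up k).obj F)
    have hτ := bijective_ltcxMap S hS n I a b k (by omega) hF
    have : (fun f : P ⟶ (DCoh.RSheafHom S.X₂).obj L => f ≫ φ) =
        adj₁.homEquiv P L ∘ (fun f => (ltcxMap S.f).app _ ≫ f) ∘ (adj₂.homEquiv P L).symm := by
      funext f
      refine (adj₁.homEquiv_naturality_left f _).symm.trans (congrArg (adj₁.homEquiv P L) ?_)
      change _ = (ltcxMap S.f).app P ≫ (adj₂.homEquiv P L).symm f
      rw [Adjunction.homEquiv_counit, ← (ltcxMap S.f).naturality_assoc]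
    rw [this, Equiv.comp_bijective, Equiv.bijective_comp]
    exact hτ
  haveI := isIso_hd_of_flat_bijective φ i hb
  exact ⟨asIso ((DerivedCategory.homologyFunctor X.Modules i).map φ)⟩

end Groth.AffDual.HighTail
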