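import Groth.Agent.QCohMod.Tensor
import Groth.Agent.DAlg.KFlat
import Groth.Agent.DerivedCoh.KFlat.TotalMap
import Groth.Agent.DerivedCoh.KFlat.Scheme

/-!
`(M ⊗ N)~ ≅ M~ ⊗ N~`, naturally, for modules and for complexes.
-/

universe u

open CategoryTheory CategoryTheory.Limits AlgebraicGeometry Opposite TopologicalSpace MonoidalCategory
  HomologicalComplex
open Groth.PicAux (PTen ptenUnit ptenUnit_smul)

set_option backward.isDefEq.respectTransparency false
set_option backward.defeqAttrib.useBackward true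
set_option maxHeartbeats 800000

namespace Groth.AffDual.TildeTensor

variable {R : CommRingCat.{u}}

set_option quotPrecheck false
local notation "RA" => R
local notation "XA" => Spec R
local notation "Γ₀" => moduleSpecΓFunctor (R := R)
local notation "TA" => Groth.DAlg.KFlatMod.T ↑R
local notation "TS" => Groth.DerivedCoh.KFlat.T (Spec R)
local notation "up" => ComplexShape.up ℤ

/-- the global section attached to an element -/
noncomputable def sec (M : ModuleCat.{u} R) (m : M) : Γ(tilde (R := RA) M, ⊤) :=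
  (tilde.isoTop (R := RA) M).toLinearEquiv m

lemma sec_add (M : ModuleCat.{u} R) (m m' : M) : sec M (m + m') = sec M m + sec M m' :=
  map_add (tilde.isoTop (R := RA) M).toLinearEquiv m m'

lemma sec_smul (M : ModuleCat.{u} R) (a : R) (m : M) :
    sec M (a • m) = (Scheme.ΓSpecIso RA).inv a • sec M m :=
  map_smul (tilde.isoTop (R := RA) M).toLinearEquiv a m

lemma sec_natural {M N : ModuleCat.{u} R} (f : M ⟶ N) (m : M) :
    ((tilde.functor RA).map f).app ⊤ (sec M m) = sec N (f m) :=
  ConcreteCategory.congr_hom (tilde.toOpen_map_app (R := RA) f ⊤) m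

lemma ptenUnit_sec_smul (M N : ModuleCat.{u} R) (a : R) (z : PTen (tilde (R := RA) M) (tilde (R := RA) N) ⊤) :
    (show ((Γ₀).obj (((TS).obj (tilde (R := RA) M)).obj (tilde (R := RA) N)) : ModuleCat R) from
      ptenUnit (tilde (R := RA) M) (tilde (R := RA) N) ⊤ ((Scheme.ΓSpecIso RA).inv a • z)) =
    a • (show ((Γ₀).obj (((TS).obj (tilde (R := RA) M)).obj (tilde (R := RA) N)) : ModuleCat R) from
      ptenUnit (tilde (R := RA) M) (tilde (R := RA) N) ⊤ z) :=
  ptenUnit_smul _ _ ((Scheme.ΓSpecIso RA).inv a) z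

/-- the bilinear pairing -/
noncomputable def pairing (M N : ModuleCat.{u} R) :
    TensorProduct R M N →ₗ[R] ((Γ₀).obj (((TS).obj (tilde (R := RA) M)).obj (tilde (R := RA) N)) : ModuleCat R) :=
  TensorProduct.lift (LinearMap.mk₂ R
    (fun m n => (show ((Γ₀).obj (((TS).obj (tilde (R := RA) M)).obj (tilde (R := RA) N)) : ModuleCat R) from
      ptenUnit (tilde (R := RA) M) (tilde (R := RA) N) ⊤ (sec M m ⊗ₜ sec N n)))
    (fun m m' n => ((congrArg (ptenUnit (tilde (R := RA) M) (tilde (R := RA) N) ⊤)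
      ((congrArg (· ⊗ₜ sec N n) (sec_add M m m')).trans (TensorProduct.add_tmul _ _ _))).trans (map_add _ _ _)))
    (fun a m n => ((congrArg (ptenUnit (tilde (R := RA) M) (tilde (R := RA) N) ⊤)
      ((congrArg (· ⊗ₜ sec N n) (sec_smul M a m)).trans (TensorProduct.smul_tmul' _ _ _).symm)).trans
        (ptenUnit_sec_smul M N a _)))
    (fun m n n' => ((congrArg (ptenUnit (tilde (R := RA) M) (tilde (R := RA) N) ⊤)
      ((congrArg (sec M m ⊗ₜ ·) (sec_add N n n')).trans (TensorProduct.tmul_add _ _ _))).trans (map_add _ _ _)))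
    (fun a m n => ((congrArg (ptenUnit (tilde (R := RA) M) (tilde (R := RA) N) ⊤)
      ((congrArg (sec M m ⊗ₜ ·) (sec_smul N a n)).trans (TensorProduct.tmul_smul _ _ _))).trans
        (ptenUnit_sec_smul M N a _))))

lemma pairing_tmul (M N : ModuleCat.{u} R) (m : M) (n : N) :
    pairing M N (m ⊗ₜ n) = ptenUnit (tilde (R := RA) M) (tilde (R := RA) N) ⊤ (sec M m ⊗ₜ sec N n) := rfl

theorem pairing_bijective (M N : ModuleCat.{u} R) : Function.Bijective (pairing M N) := by
  let eM := (tilde.isoTop (R := RA) M).toLinearEquiv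
  let eN := (tilde.isoTop (R := RA) N).toLinearEquiv
  have hu := Groth.QCohMod.ptenUnit_bijective (M := tilde (R := RA) M) (N := tilde (R := RA) N)
    (isAffineOpen_top XA)
  let φ : Γ(XA, ⊤) → R := fun r => (Scheme.ΓSpecIso RA).hom r
  have hφ : ∀ r, (Scheme.ΓSpecIso RA).inv (φ r) = r := fun r =>
    ConcreteCategory.congr_hom (Scheme.ΓSpecIso RA).hom_inv_id r
  have hM : ∀ (r : Γ(XA, ⊤)) (s : Γ(tilde (R := RA) M, ⊤)), eM.symm (r • s) = φ r • eM.symm s := fun r s => by
    conv_lhs => rw [← hφ r]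
    exact eM.symm.map_smul (φ r) s
  have hN : ∀ (r : Γ(XA, ⊤)) (s : Γ(tilde (R := RA) N, ⊤)), eN.symm (r • s) = φ r • eN.symm s := fun r s => by
    conv_lhs => rw [← hφ r]
    exact eN.symm.map_smul (φ r) s
  let G : PTen (tilde (R := RA) M) (tilde (R := RA) N) ⊤ →+ TensorProduct R M N := TensorProduct.liftAddHom
    { toFun := fun s => AddMonoidHom.mk' (fun t => eM.symm s ⊗ₜ[R] eN.symm t) fun t t' => by
        rw [← TensorProduct.tmul_add]; exact congrArg _ (map_add eN.symm _ _)
      map_zero' := AddMonoidHom.ext fun t =>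
        (congrArg (· ⊗ₜ[R] _) (map_zero eM.symm)).trans (TensorProduct.zero_tmul _ _)
      map_add' := fun s s' => AddMonoidHom.ext fun t =>
        (congrArg (· ⊗ₜ[R] _) (map_add eM.symm s s')).trans (TensorProduct.add_tmul _ _ _) }
    (fun r s t => by
      show eM.symm (r • s) ⊗ₜ[R] eN.symm t = eM.symm s ⊗ₜ[R] eN.symm (r • t)
      erw [hM, hN]
      exact TensorProduct.smul_tmul _ _ _)
  have hFG : ∀ z, pairing M N (G z) = ptenUnit _ _ ⊤ z := fun z => by
    induction z using TensorProduct.induction_on with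
    | zero => rw [map_zero G, map_zero]; exact (map_zero (ptenUnit _ _ ⊤)).symm
    | tmul s t =>
      show ptenUnit _ _ ⊤ (eM (eM.symm s) ⊗ₜ eN (eN.symm t)) = _
      rw [eM.apply_symm_apply, eN.apply_symm_apply]
    | add a b ha hb => rw [map_add G, map_add, ha, hb]; exact (map_add (ptenUnit _ _ ⊤) a b).symm
  have hGF : ∀ x, ∃ z, pairing M N x = ptenUnit _ _ ⊤ z ∧ G z = x := fun x => by
    induction x using TensorProduct.induction_on with
    | zero => exact ⟨0, (map_zero (pairing M N)).trans (map_zero (ptenUnit _ _ ⊤)).symm, map_zero G⟩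
    | tmul m n => exact ⟨sec M m ⊗ₜ sec N n, rfl, by
        show eM.symm (eM m) ⊗ₜ[R] eN.symm (eN n) = _
        rw [eM.symm_apply_apply, eN.symm_apply_apply]⟩
    | add a b ha hb =>
      obtain ⟨z, hz, hz'⟩ := ha
      obtain ⟨w, hw, hw'⟩ := hb
      exact ⟨z + w, by rw [map_add (pairing M N), hz, hw]; exact (map_add (ptenUnit _ _ ⊤) z w).symm,
        by rw [map_add G, hz', hw']⟩
  refine ⟨fun x y hxy => ?_, fun y => ?_⟩
  · obtain ⟨z, hz, hz'⟩ := hGF x
    obtain ⟨w, hw, hw'⟩ := hGF y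
    rw [← hz', ← hw', hu.1 (hz.symm.trans (hxy.trans hw))]
  · obtain ⟨z, hz⟩ := hu.2 y
    exact ⟨G z, (hFG z).trans hz⟩

/-- the pairing as a morphism -/
noncomputable def pairingHom (M N : ModuleCat.{u} R) :
    ((TA).obj M).obj N ⟶ (Γ₀).obj (((TS).obj ((tilde.functor RA).obj M)).obj ((tilde.functor RA).obj N)) :=
  letI : Module R ((Γ₀).obj (((TS).obj (tilde (R := RA) M)).obj (tilde (R := RA) N)) : ModuleCat R) :=
    ModuleCat.isModule _
  ModuleCat.ofHom (Y := ((Γ₀).obj (((TS).obj (tilde (R := RA) M)).obj (tilde (R := RA) N)) : ModuleCat R)) (pairing M N)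

/-- the comparison map -/
noncomputable def cmp (M N : ModuleCat.{u} R) :
    (tilde.functor RA).obj (((TA).obj M).obj N) ⟶
      ((TS).obj ((tilde.functor RA).obj M)).obj ((tilde.functor RA).obj N) :=
  ((tilde.adjunction (R := RA)).homEquiv _ _).symm (pairingHom M N)

instance isIso_cmp (M N : ModuleCat.{u} R) : IsIso (cmp M N) := by
  haveI : IsIso (pairingHom M N) :=
    (ConcreteCategory.isIso_iff_bijective _).2 (pairing_bijective M N)
  let U := ((TS).obj ((tilde.functor RA).obj M)).obj ((tilde.functor RA).obj N)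
  haveI : ((tilde.functor RA).obj M).IsQuasicoherent := inferInstanceAs (tilde M).IsQuasicoherent
  haveI : ((tilde.functor RA).obj N).IsQuasicoherent := inferInstanceAs (tilde N).IsQuasicoherent
  haveI : U.IsQuasicoherent :=
    Groth.QCohMod.isQCoh_tensorMod (M := (tilde.functor RA).obj M) (N := (tilde.functor RA).obj N)
  haveI : IsIso ((tilde.adjunction (R := RA)).counit.app U) :=
    Scheme.Modules.isIso_fromTildeΓ_of_isQuasicoherent U
  rw [cmp, Adjunction.homEquiv_counit]
  exact IsIso.comp_isIso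

lemma ptenUnit_map_left {X : Scheme.{u}} {M M' : X.Modules} (f : M ⟶ M') (N : X.Modules)
    (s : Γ(M, ⊤)) (t : Γ(N, ⊤)) :
    (((Groth.DerivedCoh.KFlat.T X).map f).app N).app ⊤ (ptenUnit M N ⊤ (s ⊗ₜ t)) =
      ptenUnit M' N ⊤ (f.app ⊤ s ⊗ₜ t) :=
  (ConcreteCategory.congr_hom (congr_app (congrArg (PresheafOfModules.toPresheaf _).map
    ((PresheafOfModules.sheafificationAdjunction (𝟙 X.ringCatSheaf.obj)).unit.naturality
      (((curriedTensor (CohB1.PMod X)).map (DCoh.toP.map f)).app (DCoh.toP.obj N)))) (op ⊤)) (s ⊗ₜ t : PTen M N ⊤)).symm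

lemma ptenUnit_map_right {X : Scheme.{u}} (M : X.Modules) {N N' : X.Modules} (g : N ⟶ N')
    (s : Γ(M, ⊤)) (t : Γ(N, ⊤)) :
    (((Groth.DerivedCoh.KFlat.T X).obj M).map g).app ⊤ (ptenUnit M N ⊤ (s ⊗ₜ t)) =
      ptenUnit M N' ⊤ (s ⊗ₜ g.app ⊤ t) :=
  (ConcreteCategory.congr_hom (congr_app (congrArg (PresheafOfModules.toPresheaf _).map
    ((PresheafOfModules.sheafificationAdjunction (𝟙 X.ringCatSheaf.obj)).unit.naturality
      (((curriedTensor (CohB1.PMod X)).obj (DCoh.toP.obj M)).map (DCoh.toP.map g)))) (op ⊤)) (s ⊗ₜ t : PTen M N ⊤)).symm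

lemma cmp_left {M M' : ModuleCat.{u} R} (f : M ⟶ M') (N : ModuleCat.{u} R) :
    (tilde.functor RA).map (((TA).map f).app N) ≫ cmp M' N =
      cmp M N ≫ ((TS).map ((tilde.functor RA).map f)).app ((tilde.functor RA).obj N) := by
  rw [cmp, cmp, ← Adjunction.homEquiv_naturality_left_symm, ← Adjunction.homEquiv_naturality_right_symm]
  refine congrArg _ (ModuleCat.MonoidalCategory.tensor_ext fun m n => ?_)
  refine Eq.trans ?_ (ptenUnit_map_left ((tilde.functor RA).map f) _ (sec M m) (sec N n)).symm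
  rw [sec_natural]
  rfl

lemma cmp_right (M : ModuleCat.{u} R) {N N' : ModuleCat.{u} R} (g : N ⟶ N') :
    (tilde.functor RA).map (((TA).obj M).map g) ≫ cmp M N' =
      cmp M N ≫ ((TS).obj ((tilde.functor RA).obj M)).map ((tilde.functor RA).map g) := by
  rw [cmp, cmp, ← Adjunction.homEquiv_naturality_left_symm, ← Adjunction.homEquiv_naturality_right_symm]
  refine congrArg _ (ModuleCat.MonoidalCategory.tensor_ext fun m n => ?_)
  refine Eq.trans ?_ (ptenUnit_map_right _ ((tilde.functor RA).map g) (sec M m) (sec N n)).symm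
  rw [sec_natural]
  rfl

section Complexes

open Groth.DerivedCoh.KFlat (tot totL Bi mapBi totalMapIso)

local notation "tCx" => Functor.mapHomologicalComplex (tilde.functor R) (ComplexShape.up ℤ)

/-- the comparison of bicomplexes -/
noncomputable def biIso (P Q : DRing.Cx R) :
    (mapBi (tilde.functor RA)).obj (((Bi TA).obj P).obj Q) ≅ ((Bi TS).obj ((tCx).obj P)).obj ((tCx).obj Q) :=
  HomologicalComplex.Hom.isoOfComponents
    (fun p => HomologicalComplex.Hom.isoOfComponents (fun q => asIso (cmp (P.X p) (Q.X q)))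
      fun q q' _ => (cmp_right (P.X p) (Q.d q q')).symm)
    fun p p' _ => HomologicalComplex.hom_ext _ _ fun q => (cmp_left (P.d p p') (Q.X q)).symm

instance preservesColimits_tilde (J : Type) :
    PreservesColimitsOfShape (Discrete J) (tilde.functor RA) :=
  have : PreservesColimitsOfSize.{0, 0} (tilde.functor RA) :=
    (tilde.adjunction (R := RA)).leftAdjoint_preservesColimits
  inferInstance

/-- `(P ⊗ Q)~ ≅ P~ ⊗ Q~` -/
noncomputable def totIso (P Q : DRing.Cx R) :
    (tCx).obj (tot TA P Q) ≅ tot TS ((tCx).obj P) ((tCx).obj Q) :=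
  (totalMapIso (tilde.functor RA) (((Bi TA).obj P).obj Q)).symm ≪≫
    HomologicalComplex₂.total.mapIso (biIso P Q) up

lemma ι_totIso (P Q : DRing.Cx R) (p q n : ℤ) (h : p + q = n) :
    (tilde.functor RA).map (ιMapBifunctor P Q TA up p q n h) ≫ (totIso P Q).hom.f n =
      cmp (P.X p) (Q.X q) ≫ ιMapBifunctor ((tCx).obj P) ((tCx).obj Q) TS up p q n h := by
  change (tilde.functor RA).map ((((Bi TA).obj P).obj Q).ιTotal up p q n h) ≫
    (Groth.DerivedCoh.KFlat.totalMapXIso (tilde.functor RA) (((Bi TA).obj P).obj Q) n).inv ≫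
      (HomologicalComplex₂.total.map (biIso P Q).hom up).f n = _
  rw [← Groth.DerivedCoh.KFlat.ι_totalMapXIso_hom, Category.assoc, Iso.hom_inv_id_assoc,
    HomologicalComplex₂.ιTotal_map]
  rfl

/-- naturality in the first variable -/
theorem totIso_natural {P P' : DRing.Cx R} (f : P ⟶ P') (Q : DRing.Cx R) :
    (tCx).map ((totL TA Q).map f) ≫ (totIso P' Q).hom =
      (totIso P Q).hom ≫ (totL TS ((tCx).obj Q)).map ((tCx).map f) := by
  refine HomologicalComplex.hom_ext _ _ fun n => ?_
  refine (isColimitOfPreserves (tilde.functor RA)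
    ((((Bi TA).obj P).obj Q).toGradedObject.isColimitCofanMapObj (ComplexShape.π up up up) n)).hom_ext fun j => ?_
  obtain ⟨⟨⟨p, q⟩, h⟩⟩ := j
  change (tilde.functor RA).map (ιMapBifunctor P Q TA up p q n h) ≫
      ((tilde.functor RA).map (((totL TA Q).map f).f n) ≫ (totIso P' Q).hom.f n) =
    (tilde.functor RA).map (ιMapBifunctor P Q TA up p q n h) ≫
      ((totIso P Q).hom.f n ≫ ((totL TS ((tCx).obj Q)).map ((tCx).map f)).f n)
  have e₁ : ιMapBifunctor P Q TA up p q n h ≫ ((totL TA Q).map f).f n =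
      ((TA).map (f.f p)).app (Q.X q) ≫ ιMapBifunctor P' Q TA up p q n h := by
    refine (ι_mapBifunctorMap f (𝟙 Q) TA up p q n h).trans ?_
    rw [HomologicalComplex.id_f, CategoryTheory.Functor.map_id, Category.id_comp]
  have e₂ : ιMapBifunctor ((tCx).obj P) ((tCx).obj Q) TS up p q n h ≫
      ((totL TS ((tCx).obj Q)).map ((tCx).map f)).f n =
      ((TS).map ((tilde.functor RA).map (f.f p))).app ((tilde.functor RA).obj (Q.X q)) ≫
        ιMapBifunctor ((tCx).obj P') ((tCx).obj Q) TS up p q n h := by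
    refine (ι_mapBifunctorMap ((tCx).map f) (𝟙 _) TS up p q n h).trans ?_
    rw [HomologicalComplex.id_f, CategoryTheory.Functor.map_id, Category.id_comp]
    rfl
  refine (Category.assoc _ _ _).symm.trans (((congrArg (· ≫ _) ((Functor.map_comp _ _ _).symm.trans
    ((congrArg _ e₁).trans (Functor.map_comp _ _ _)))).trans (Category.assoc _ _ _)).trans ?_)
  refine (congrArg (_ ≫ ·) (ι_totIso P' Q p q n h)).trans ?_
  refine ((Category.assoc _ _ _).symm.trans ((congrArg (· ≫ _) (cmp_left (f.f p) (Q.X q))).trans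
    (Category.assoc _ _ _))).trans ?_
  refine (congrArg (_ ≫ ·) e₂.symm).trans ?_
  refine (Category.assoc _ _ _).symm.trans ((congrArg (· ≫ _) (ι_totIso P Q p q n h).symm).trans ?_)
  exact Category.assoc _ _ _

end Complexes

end Groth.AffDual.TildeTensor
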